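import Cfsg.Agent.Lib.FusionSys.CentralLift.Generated

/-!
The lifting automorphisms centralize the kernel modulo the inner automorphisms.
-/

set_option autoImplicit false
set_option linter.style.haveILetI false

namespace Cfsg.Lib.FusionSys.CentralLift

open Cfsg Cfsg.FusionSystem Cfsg.Lib.FusionSys

universe u v

theorem inn_conj {G : Type*} [Group G] (g : MulAut G) {i : MulAut G} (hi : i ∈ Cfsg.Inn G) :
    g * i * g⁻¹ ∈ Cfsg.Inn G := by
  obtain ⟨y, rfl⟩ := hi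
  exact ⟨g y, MulEquiv.ext fun x => by simp [MulAut.mul_apply]⟩

theorem inn_normal (G : Type*) [Group G] : (Cfsg.Inn G).Normal :=
  ⟨fun _ hi g => inn_conj g hi⟩

theorem inn_congr {G H : Type*} [Group G] [Group H] (e : G ≃* H) {i : MulAut G}
    (hi : i ∈ Cfsg.Inn G) : MulAut.congr e i ∈ Cfsg.Inn H := by
  obtain ⟨y, rfl⟩ := hi
  exact ⟨e y, MulEquiv.ext fun x => by simp [MulAut.congr]⟩

variable {Ω : Type u} [Group Ω] {S : Subgroup Ω} {Ω' : Type v} [Group Ω'] {S' : Subgroup Ω'}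
  {U' : Subgroup Ω'} {p : ℕ} {F : FusionSystem S} {Z : Subgroup Ω} {θ : S →* Ω'}
  {E : FusionSystem S'} {N : FusionSystem U'} {P Q R : Subgroup Ω}

theorem conjAut_mem_inn {g : Ω} (hg : g ∈ P) (hn : g ∈ Subgroup.normalizer (P : Set Ω)) :
    conjAut P hn ∈ Cfsg.Inn P :=
  ⟨⟨g, hg⟩, MulEquiv.ext fun _ => Subtype.ext rfl⟩

theorem mem_normalizer_inf {G : Type*} [Group G] {A B : Subgroup G} {g : G}
    (h : g ∈ Subgroup.normalizer (A : Set G) ∧ g ∈ Subgroup.normalizer (B : Set G)) :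
    g ∈ Subgroup.normalizer ((A ⊓ B : Subgroup G) : Set G) :=
  Subgroup.mem_normalizer_iff.2 fun x =>
    and_congr (Subgroup.mem_normalizer_iff.1 h.1 x) (Subgroup.mem_normalizer_iff.1 h.2 x)

theorem conjAut_congr_elt {g g' : Ω} (hg : g ∈ Subgroup.normalizer (P : Set Ω))
    (hg' : g' ∈ Subgroup.normalizer (P : Set Ω)) (he : g = g') : conjAut P hg = conjAut P hg' := by
  subst he; rfl

section

variable (h : CSetup p F Z θ E N)
include h

theorem conj_mem_pre [Finite S] [Fact p.Prime] (hPU : P ≤ preimageAlong θ U') {g a : MulAut P}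
    (hg : g ∈ F.autGroup P) (ha : a ∈ (preSystem θ F N).autGroup P) :
    g * a * g⁻¹ ∈ (preSystem θ F N).autGroup P :=
  pre_congr h ((mem_autGroup (hPU.trans preimageAlong_le)).1 hg) hPU hPU ha

theorem pre_le_autGroup [Finite S] [Fact p.Prime] (hPU : P ≤ preimageAlong θ U') :
    (preSystem θ F N).autGroup P ≤ F.autGroup P :=
  fun _ ha => ((mem_pre_autGroup_iff h hPU).1 ha).1

theorem mem_pre_of_induced [Finite S] [Fact p.Prime] (hPU : P ≤ preimageAlong θ U') {u : Ω}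
    (hu : u ∈ preimageAlong θ U') (hn : u ∈ Subgroup.normalizer (P : Set Ω)) :
    conjAut P hn ∈ (preSystem θ F N).autGroup P :=
  autInducedBy_le_autGroup hPU (conjAut_mem_autInducedBy hn hu)

theorem image_normalizer [Finite S] [Fact p.Prime] (hP : P ≤ S) (hZ : Z ≤ P) (g : S) :
    θ g ∈ Subgroup.normalizer ((imageAlong θ P : Subgroup Ω') : Set Ω') ↔
      (g : Ω) ∈ Subgroup.normalizer (P : Set Ω) := by
  have hP' : imageAlong θ P ≤ S' := by
    rintro _ ⟨x, -, rfl⟩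
    exact (hrange h).le ⟨x, rfl⟩
  have := conj_induced (θ := θ) (hker h) (hrange h) hP' g
  rw [pre_image h hP hZ] at this
  exact this.symm

theorem inn_of_ker_induced [Finite S] [Fact p.Prime] (hP : InFamily θ Z N P) {u : Ω}
    (hu : u ∈ preimageAlong θ U') (hn : u ∈ Subgroup.normalizer (P : Set Ω))
    (hk : conjAut P hn ∈ kerAut F Z P) : conjAut P hn ∈ Cfsg.Inn P := by
  obtain ⟨hZ, hPU, hc⟩ := hP
  have hPS := hPU.trans (preimageAlong_le (θ := θ) (P' := U'))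
  obtain ⟨huS, hu'⟩ := mem_preimageAlong.1 hu
  refine conjAut_mem_inn ?_ hn
  rw [← pre_image h hPS hZ]
  refine mem_preimageAlong.2 ⟨huS, hc.2 _ (isConj_refl N hc.1) (mem_centralizerIn.2 ⟨hu', ?_⟩)⟩
  intro y hy
  obtain ⟨x, hxS, hxP, rfl⟩ := mem_imageAlong.1 hy
  have hz := hk.2 ⟨x, hxP⟩
  rw [coe_conjAut] at hz
  have h1 := (hker h (⟨x, hxS⟩⁻¹ * (⟨u, huS⟩ * ⟨x, hxS⟩ * ⟨u, huS⟩⁻¹))).2 hz
  simp only [map_mul, map_inv, inv_mul_eq_one] at h1
  exact mul_inv_eq_iff_eq_mul.1 h1.symm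

theorem image_fn [Finite S] [Fact p.Prime] (hP : F.IsFullyNormalized P) (hZ : Z ≤ P) :
    E.IsFullyNormalized (imageAlong θ P) := by
  have hP' : imageAlong θ P ≤ S' := by
    rintro _ ⟨x, -, rfl⟩
    exact (hrange h).le ⟨x, rfl⟩
  refine ⟨hP', ?_⟩
  rintro R ⟨ψ, hψ, rfl⟩
  obtain ⟨-, φ, hφ, hi⟩ := (h.fac.2.2.2 _ _).1 hψ
  have heq := pre_image h hP.1 hZ
  have hR : ψ.range ≤ S' := range_le hψ
  have hc : F.IsConj P (preimageAlong θ ψ.range) := by
    refine ⟨_, restrict_mem hφ heq.ge, ?_⟩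
    have hi' : InducedAlong θ (φ.comp (Subgroup.inclusion heq.ge)) ψ :=
      ⟨hP.1, fun x => hom_mem hφ _, fun x => mem_imageAlong.2 ⟨x, hP.1 x.2, x.2, rfl⟩,
        fun x => inducedAlong_apply hi (x := Subgroup.inclusion heq.ge x) rfl⟩
    exact range_eq_preimage h hZ (restrict_mem hφ heq.ge) hi'
  have h1 := hP.2 _ hc
  rw [card_normalizer_preimage (zle h) (hker h) (hrange h) hR] at h1
  have h2 := card_normalizer_preimage (zle h) (hker h) (hrange h) hP'
  rw [heq] at h2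
  rw [h2] at h1
  haveI := finite_of_le (zle h)
  exact Nat.le_of_mul_le_mul_left h1 Nat.card_pos

theorem bar_induced_mem [Finite S] [Fact p.Prime] (hPU : P ≤ preimageAlong θ U')
    (hfn : N.IsFullyNormalized (imageAlong θ P)) {t : Ω} (ht : t ∈ S)
    (hn : t ∈ Subgroup.normalizer (P : Set Ω))
    (hA : conjAut P hn ∈ (preSystem θ F N).autGroup P) {b : MulAut (imageAlong θ P)}
    (hb : Bar θ (hPU.trans preimageAlong_le) (conjAut P hn) b) :
    b ∈ autInducedBy U' (imageAlong θ P) := by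
  haveI := ufinite h
  have hP' := image_le h hPU
  haveI := finite_mulAut_of_le hP'
  obtain ⟨-, -, W, hW⟩ := isFullyAutomized_and_fc_of_fn (uP h) h.normal.1.1 hfn
  obtain ⟨-, b', hb', hbe⟩ := (mem_pre_autGroup_iff h hPU).1 hA
  obtain rfl := hbe.unique hb
  have hbS : b' ∈ autInducedBy S' (imageAlong θ P) := by
    refine mem_autInducedBy.2 ⟨θ ⟨t, ht⟩, (hrange h).le ⟨_, rfl⟩, fun y => ?_⟩
    obtain ⟨x, rfl⟩ := toBar_surjective (θ := θ) (hPU.trans preimageAlong_le) y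
    rw [hb x, coe_toBar, coe_toBar, ← map_inv, ← map_mul, ← map_mul]
    exact congrArg θ (Subtype.ext rfl)
  haveI := efinite h
  have hX : IsPGroup p ((autInducedBy S' (imageAlong θ P)).subgroupOf (N.autGroup (imageAlong θ P))) :=
    (isPGroup_autInducedBy (eS' h)).comap_subtype
  have hle : (W : Subgroup (N.autGroup (imageAlong θ P))) ≤
      (autInducedBy S' (imageAlong θ P)).subgroupOf (N.autGroup (imageAlong θ P)) := by
    rw [hW]
    exact fun x hx => autInducedBy_mono (u_le h) hx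
  have hmem : (⟨b', hb'⟩ : N.autGroup (imageAlong θ P)) ∈ (W : Subgroup _) := (W.3 hX hle).le hbS
  rw [hW] at hmem
  exact hmem

theorem exists_factor_induced [Finite S] [Fact p.Prime] (hP : InFamily θ Z N P)
    {a : MulAut P} (ha : a ∈ (preSystem θ F N).autGroup P) {b : MulAut (imageAlong θ P)}
    (hb : Bar θ (hP.2.1.trans preimageAlong_le) a b) (hbU : b ∈ autInducedBy U' (imageAlong θ P)) :
    ∃ (u : Ω) (hn : u ∈ Subgroup.normalizer (P : Set Ω)), u ∈ preimageAlong θ U' ∧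
      ∃ k ∈ kerAut F Z P, a = k * conjAut P hn := by
  obtain ⟨hZ, hPU, hc⟩ := hP
  have hPS := hPU.trans (preimageAlong_le (θ := θ) (P' := U'))
  obtain ⟨u', hu', hue⟩ := mem_autInducedBy.1 hbU
  obtain ⟨⟨u, huS⟩, rfl⟩ := u_le_range h hu'
  have hnb := mem_normalizer_of_aut hue
  have hn : u ∈ Subgroup.normalizer (P : Set Ω) := (image_normalizer h hPS hZ ⟨u, huS⟩).1 hnb
  have hu : u ∈ preimageAlong θ U' := mem_preimageAlong.2 ⟨huS, hu'⟩
  refine ⟨u, hn, hu, a * (conjAut P hn)⁻¹, ?_, (inv_mul_cancel_right _ _).symm⟩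
  have hcA := mem_pre_of_induced h hPU hu hn
  refine (mem_kerAut_iff_bar h (hP := hPS) (pre_le_autGroup h hPU (mul_mem ha (inv_mem hcA)))
    (hb.mul (Bar.conjAut hPS huS hn hnb).inv)).2 ?_
  rw [mul_inv_eq_one]
  exact MulEquiv.ext fun y => Subtype.ext (hue y)

theorem exists_lift_aut' [Finite S] [Fact p.Prime] {P' : Subgroup Ω'} (hP' : P' ≤ U')
    {b : MulAut P'} (hb : b ∈ N.autGroup P') :
    ∃ a ∈ (preSystem θ F N).autGroup (preimageAlong θ P'),
      ∀ x : preimageAlong θ P', θ ⟨(a x : Ω), preimageAlong_le (a x).2⟩ =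
        (b ⟨θ ⟨x, preimageAlong_le x.2⟩, (mem_preimageAlong.1 x.2).2⟩ : Ω') := by
  have hPU : preimageAlong θ P' ≤ preimageAlong θ U' := fun x hx => by
    obtain ⟨hxS, hx'⟩ := mem_preimageAlong.1 hx
    exact mem_preimageAlong.2 ⟨hxS, hP' hx'⟩
  have key : ∀ (R : Subgroup Ω') (_ : imageAlong θ (preimageAlong θ P') = R) (c : MulAut R),
      c ∈ N.autGroup R → ∃ a ∈ (preSystem θ F N).autGroup (preimageAlong θ P'),
        ∀ (x : preimageAlong θ P') (hx : θ ⟨x, preimageAlong_le x.2⟩ ∈ R),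
          θ ⟨(a x : Ω), preimageAlong_le (a x).2⟩ = (c ⟨_, hx⟩ : Ω') := by
    rintro R rfl c hc
    obtain ⟨a, ha, hac⟩ := exists_lift_aut h (kernel_le_preimageAlong (zle h) (hker h)) hPU hc
    exact ⟨a, ha, fun x hx => (congrArg Subtype.val (hac x)).symm⟩
  obtain ⟨a, ha, hab⟩ := key P' (imageAlong_preimageAlong (hrange h) (hP'.trans (u_le h))) b hb
  exact ⟨a, ha, fun x => hab x _⟩

/-- The statement on the top of the family. -/
theorem commutator_top [Finite S] [Fact p.Prime] (hUP : P = preimageAlong θ U') {a k : MulAut P}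
    (ha : a ∈ (preSystem θ F N).autGroup P) (hk : k ∈ kerAut F Z P) {s : Ω} (hs : s ∈ S)
    (hn : s ∈ Subgroup.normalizer (P : Set Ω)) (hks : k = conjAut P hn) :
    a * k * a⁻¹ * k⁻¹ ∈ Cfsg.Inn P := by
  subst hUP hks
  have hUS : (preimageAlong θ U') ≤ S := preimageAlong_le
  obtain ⟨haF, b₀, hb₀, hab⟩ := (mem_pre_autGroup_iff h le_rfl).1 ha
  have key : ∀ (V : Subgroup Ω') (_ : imageAlong θ (preimageAlong θ U') = V) (b : MulAut V), b ∈ N.autGroup V →
      ∀ (hVU : V = U'), ∃ β ∈ E.Hom (U' ⊔ centralizerIn S' U'),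
        (∀ (x : (preimageAlong θ U')) (hx : θ ⟨x, hUS x.2⟩ ∈ V) hx', β ⟨θ ⟨x, hUS x.2⟩, hx'⟩ = (b ⟨_, hx⟩ : Ω')) ∧
        ∀ c : ↥(U' ⊔ centralizerIn S' U'), (c : Ω') ∈ centralizerIn S' U' →
          (c : Ω')⁻¹ * β c ∈ U' := by
    rintro V - b hb rfl
    obtain ⟨β, hβ, hβe, hβc⟩ := h.normal.2 b hb
    exact ⟨_, (mem_autGroup (sup_le (u_le h) (centralizerIn_le _))).1 hβ,
      fun x hx hx' => hβe ⟨_, hx⟩, fun c hc => (hβc c hc).1⟩
  obtain ⟨β, hβ, hβe, hβc⟩ := key _ rfl b₀ hb₀ (imageAlong_preimageAlong (hrange h) (u_le h))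
  set W := preimageAlong θ (U' ⊔ centralizerIn S' U') with hWdef
  obtain ⟨-, φ, hφ, hi⟩ := (h.fac.2.2.2 _ _).1 hβ
  have hsc : θ ⟨s, hs⟩ ∈ centralizerIn S' U' := by
    refine mem_centralizerIn.2 ⟨(hrange h).le ⟨_, rfl⟩, fun y hy => ?_⟩
    obtain ⟨⟨x, hxS⟩, rfl⟩ := u_le_range h hy
    have hz := hk.2 ⟨x, mem_preimageAlong.2 ⟨hxS, hy⟩⟩
    rw [coe_conjAut] at hz
    have h1 := (hker h (⟨x, hxS⟩⁻¹ * (⟨s, hs⟩ * ⟨x, hxS⟩ * ⟨s, hs⟩⁻¹))).2 hz
    simp only [map_mul, map_inv, inv_mul_eq_one] at h1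
    exact mul_inv_eq_iff_eq_mul.1 h1.symm
  have hUW : (preimageAlong θ U') ≤ W := fun x hx => by
    obtain ⟨hxS, hx'⟩ := mem_preimageAlong.1 hx
    exact mem_preimageAlong.2 ⟨hxS, Subgroup.mem_sup_left hx'⟩
  have hsW : s ∈ W := mem_preimageAlong.2 ⟨hs, Subgroup.mem_sup_right hsc⟩
  have hv : ∀ x : (preimageAlong θ U'), φ (Subgroup.inclusion hUW x) ∈ (preimageAlong θ U') := fun x =>
    stronglyClosed_apply_mem (pre_closed h) hφ (x := Subgroup.inclusion hUW x) x.2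
  obtain ⟨r, hr, hre⟩ := exists_aut_of_hom (restrict_mem hφ hUW) hv
  have hrbar : Bar θ hUS r b₀ := fun x => by
    refine Subtype.ext ?_
    have hx' : θ ⟨(x : Ω), hUS x.2⟩ ∈ U' ⊔ centralizerIn S' U' := (mem_preimageAlong.1 (hUW x.2)).2
    refine (hβe x (toBar θ hUS x).2 hx').symm.trans ?_
    refine (inducedAlong_apply hi (x := Subgroup.inclusion hUW x) (y := ⟨_, hx'⟩) rfl
      (hx' := hom_mem hφ _)).trans ?_
    exact congrArg θ (Subtype.ext (hre x).symm)
  have hk' : r⁻¹ * a ∈ kerAut F Z (preimageAlong θ U') :=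
    (mem_kerAut_iff_bar h (hP := hUS) (mul_mem (inv_mem hr) haF) (hrbar.inv.mul hab)).2 (inv_mul_cancel _)
  set t := φ ⟨s, hsW⟩ with htdef
  have htS : t ∈ S := hom_mem hφ _
  have hu : s⁻¹ * t ∈ (preimageAlong θ U') := by
    refine mem_preimageAlong.2 ⟨S.mul_mem (S.inv_mem hs) htS, ?_⟩
    have h1 := hβc ⟨θ ⟨s, hs⟩, Subgroup.mem_sup_right hsc⟩ hsc
    rw [inducedAlong_apply hi (x := ⟨s, hsW⟩) (hxS := hs) (hx' := htS) rfl, ← map_inv, ← map_mul] at h1
    exact h1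
  have hnu := Subgroup.le_normalizer hu
  have htn : t ∈ Subgroup.normalizer ((preimageAlong θ U') : Set Ω) := by
    have := Subgroup.mul_mem _ hn hnu
    rwa [mul_inv_cancel_left] at this
  have e1 : r * conjAut (preimageAlong θ U') hn * r⁻¹ = conjAut (preimageAlong θ U') htn := by
    rw [mul_inv_eq_iff_eq_mul]
    refine MulEquiv.ext fun x => Subtype.ext ?_
    show ((r (conjAut (preimageAlong θ U') hn x) : (preimageAlong θ U')) : Ω) = t * ((r x : (preimageAlong θ U')) : Ω) * t⁻¹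
    rw [hre, hre, htdef]
    show φ (Subgroup.inclusion hUW (conjAut (preimageAlong θ U') hn x)) = φ _ * φ (Subgroup.inclusion hUW x) * (φ _)⁻¹
    rw [← map_inv, ← map_mul, ← map_mul]
    rfl
  have e2 : a * conjAut (preimageAlong θ U') hn * a⁻¹ = r * conjAut (preimageAlong θ U') hn * r⁻¹ := by
    have hc := kerAut_comm h (hP := hUS) hk' hk
    calc a * conjAut (preimageAlong θ U') hn * a⁻¹ = r * ((r⁻¹ * a) * conjAut (preimageAlong θ U') hn) * (r⁻¹ * a)⁻¹ * r⁻¹ := by group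
      _ = r * (conjAut (preimageAlong θ U') hn * (r⁻¹ * a)) * (r⁻¹ * a)⁻¹ * r⁻¹ := by rw [hc]
      _ = _ := by group
  rw [e2, e1, ← conjAut_inv, ← conjAut_mul]
  have hts : t * s⁻¹ ∈ (preimageAlong θ U') := by
    have h2 := (Subgroup.mem_normalizer_iff.1 hn _).1 hu
    rwa [← mul_assoc, mul_inv_cancel, one_mul] at h2
  exact conjAut_mem_inn hts _

theorem kerAut_le_induced [Finite S] [Fact p.Prime] (hP : P ≤ S) (hfn : F.IsFullyNormalized P) :
    kerAut F Z P ≤ autInducedBy S P := by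
  haveI := finite_mulAut_of_le hP
  obtain ⟨-, -, R, hR⟩ := isFullyAutomized_and_fc_of_fn h.hS h.hF hfn
  haveI hnrm : ((kerAut F Z P).subgroupOf (F.autGroup P)).Normal :=
    ⟨fun a ha g => kerAut_conj h (hP := hP) g.2 ha⟩
  intro k hk
  have hle := R.3 (Cfsg.Lib.Core.isPGroup_sup_of_normal (K := (kerAut F Z P).subgroupOf (F.autGroup P))
    R.isPGroup' ((isPGroup_kerAut h hP).comap_subtype (K := F.autGroup P))) le_sup_left
  have hm : (⟨k, hk.1⟩ : F.autGroup P) ∈ (R : Subgroup (F.autGroup P)) :=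
    hle.le (Subgroup.mem_sup_right hk)
  rw [hR] at hm
  exact hm

set_option maxHeartbeats 3200000 in
/-- The lifting automorphisms centralize the kernel modulo inner automorphisms. -/
theorem commutator_mem_inn [Finite S] [Fact p.Prime] :
    ∀ (n : ℕ) (P : Subgroup Ω), Nat.card (preimageAlong θ U') - Nat.card P = n → InFamily θ Z N P →
      ∀ a ∈ (preSystem θ F N).autGroup P, ∀ k ∈ kerAut F Z P, a * k * a⁻¹ * k⁻¹ ∈ Cfsg.Inn P := by
  intro n
  induction n using Nat.strong_induction_on with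
  | _ n ih =>
  intro P₀ hn₀ hP₀ a₀ ha₀ k₀ hk₀
  haveI := efinite h
  haveI := ufinite h
  have hP₀S : P₀ ≤ S := hP₀.2.1.trans preimageAlong_le
  -- move to a fully normalized subgroup
  obtain ⟨P, hconj, hPfn⟩ := exists_isFullyNormalized F hP₀S
  obtain ⟨e, he⟩ := isConj_iff.1 hconj
  have hP : InFamily θ Z N P := by
    have := family_map h hP₀ he
    rwa [show (P.subtype.comp e.toMonoidHom).range = P from by
      ext y
      exact ⟨fun ⟨x, hx⟩ => hx ▸ (e x).2, fun hy => ⟨e.symm ⟨y, hy⟩, by simp⟩⟩] at this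
  suffices H : ∀ a ∈ (preSystem θ F N).autGroup P, ∀ k ∈ kerAut F Z P,
      a * k * a⁻¹ * k⁻¹ ∈ Cfsg.Inn P by
    have h1 := inn_congr e.symm (H _ (pre_congr h he hP₀.2.1 hP.2.1 ha₀) _
      (kerAut_congr h he (hP := hP₀S) (hQ := hPfn.1) hk₀))
    rw [← map_inv, ← map_inv, ← map_mul, ← map_mul, ← map_mul] at h1
    convert h1 using 1
    exact MulEquiv.ext fun x => by simp [MulAut.congr]
  have hn : Nat.card (preimageAlong θ U') - Nat.card P = n := by
    rw [← card_eq_of_isConj hconj]; exact hn₀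
  obtain ⟨hZ, hPU, hc⟩ := id hP
  have hPS : P ≤ S := hPU.trans preimageAlong_le
  haveI := finite_mulAut_of_le hPS
  haveI := inn_normal P
  have hfnN : N.IsFullyNormalized (imageAlong θ P) :=
    isFullyNormalized_of_invariant (eS' h) (esat h) h.normal.1.2.2.1 h.normal.1.2.2.2.1
      (image_le h hPU) (image_fn h hPfn hZ)
  have hkind := kerAut_le_induced h hPS hPfn
  obtain ⟨hfc, -, R₀, hR₀⟩ := isFullyAutomized_and_fc_of_fn h.hS h.hF hPfn
  set A := (preSystem θ F N).autGroup P with hAdef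
  -- the automorphisms with the property
  let Hc : Subgroup A :=
    { carrier := {a | ∀ k ∈ kerAut F Z P, (a : MulAut P) * k * (a : MulAut P)⁻¹ * k⁻¹ ∈ Cfsg.Inn P}
      one_mem' := fun k _ => by simp
      mul_mem' := by
        intro a b ha hb k hk
        rw [Subgroup.coe_mul]
        have h2 := mul_mem (inn_conj (a : MulAut P) (hb k hk)) (ha k hk)
        convert h2 using 1
        group
      inv_mem' := by
        intro a ha k hk
        rw [Subgroup.coe_inv]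
        have h2 := inn_conj (a : MulAut P)⁻¹ (inv_mem (ha k hk))
        convert h2 using 1
        group }
  suffices hH : Hc = ⊤ by
    intro a ha k hk
    exact (hH.ge (Subgroup.mem_top (⟨a, ha⟩ : A))) k hk
  haveI hHn : Hc.Normal := ⟨fun a ha g k hk => by
    have hgF := pre_le_autGroup h hPU g.2
    have hk' := kerAut_conj h (hP := hPS) (inv_mem hgF) hk
    have h2 := inn_conj (g : MulAut P) (ha _ hk')
    rw [Subgroup.coe_mul, Subgroup.coe_mul, Subgroup.coe_inv]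
    convert h2 using 1
    group⟩
  -- the Sylow subgroup
  haveI hAn : (A.subgroupOf (F.autGroup P)).Normal :=
    ⟨fun a ha g => conj_mem_pre h hPU g.2 ha⟩
  obtain ⟨R₁, hR₁⟩ := exists_sylow_of_normal R₀ (A.subgroupOf (F.autGroup P))
  let eA : A.subgroupOf (F.autGroup P) ≃* A := Subgroup.subgroupOfEquivOfLe (pre_le_autGroup h hPU)
  let R : Sylow p A := R₁.mapSurjective (f := eA.toMonoidHom) eA.surjective
  have hRmem : ∀ x : A, x ∈ (R : Subgroup A) ↔ (x : MulAut P) ∈ autInducedBy S P := by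
    intro x
    show x ∈ (R₁ : Subgroup _).map eA.toMonoidHom ↔ _
    rw [hR₁, hR₀]
    constructor
    · rintro ⟨y, hy, rfl⟩; exact hy
    · intro hx
      exact ⟨eA.symm x, hx, eA.apply_symm_apply x⟩
  have hRH : (R : Subgroup A) ≤ Hc := by
    intro x hx k hk
    obtain ⟨t, htS, hte⟩ := mem_autInducedBy.1 ((hRmem x).1 hx)
    have htn := mem_normalizer_of_aut hte
    have hxe : (x : MulAut P) = conjAut P htn := MulEquiv.ext fun y => Subtype.ext (hte y)
    obtain ⟨-, b, -, hb⟩ := (mem_pre_autGroup_iff h hPU).1 x.2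
    obtain ⟨u, hun, hu, k', hk', hxk⟩ := exists_factor_induced h hP x.2 hb
      (bar_induced_mem h hPU hfnN htS htn (hxe ▸ x.2) (hxe ▸ hb))
    obtain ⟨s, hs, hse⟩ := mem_autInducedBy.1 (hkind hk)
    have hsn := mem_normalizer_of_aut hse
    have hke : k = conjAut P hsn := MulEquiv.ext fun y => Subtype.ext (hse y)
    have hcu : conjAut P hun * k * (conjAut P hun)⁻¹ * k⁻¹ ∈ Cfsg.Inn P := by
      have hwn := Subgroup.mul_mem _ (Subgroup.mul_mem _ (Subgroup.mul_mem _ hun hsn)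
        (Subgroup.inv_mem _ hun)) (Subgroup.inv_mem _ hsn)
      have e0 : conjAut P hun * k * (conjAut P hun)⁻¹ * k⁻¹ = conjAut P hwn := by
        rw [hke, ← conjAut_inv, ← conjAut_inv, ← conjAut_mul, ← conjAut_mul, ← conjAut_mul]
      rw [e0]
      refine inn_of_ker_induced h hP ?_ hwn (e0 ▸ mul_mem (kerAut_conj h (hP := hPS)
        (pre_le_autGroup h hPU (mem_pre_of_induced h hPU hu hun)) hk) (inv_mem hk))
      have h2 := mul_mem hu ((Subgroup.mem_normalizer_iff.1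
        (stronglyClosed_le_normalizer (pre_closed h) hs) _).1 (inv_mem hu))
      simpa only [mul_assoc] using h2
    have hkc : (x : MulAut P) * k * (x : MulAut P)⁻¹ * k⁻¹ =
        k' * (conjAut P hun * k * (conjAut P hun)⁻¹ * k⁻¹) * k'⁻¹ := by
      rw [hxk]
      calc k' * conjAut P hun * k * (k' * conjAut P hun)⁻¹ * k⁻¹
          = k' * (conjAut P hun * k * (conjAut P hun)⁻¹) * (k'⁻¹ * k⁻¹) := by group
        _ = k' * (conjAut P hun * k * (conjAut P hun)⁻¹) * (k⁻¹ * k'⁻¹) := by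
          rw [kerAut_comm h (hP := hPS) (inv_mem hk') (inv_mem hk)]
        _ = _ := by group
    rw [hkc]
    exact inn_conj k' hcu
  rw [eq_top_iff, ← closure_pPrime_union_normalizer Hc (R.subtype hRH), Subgroup.closure_le]
  rintro x (⟨hx, -⟩ | hx)
  · exact hx
  rw [Sylow.coe_subtype, Subgroup.map_subgroupOf_eq_of_le hRH] at hx
  -- reduce to elements of order prime to `p`
  set G := Subgroup.normalizer ((R : Subgroup A) : Set A) with hGdef
  suffices hG : ∀ n₁ : A, n₁ ∈ G → (orderOf n₁).Coprime p → n₁ ∈ Hc by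
    have h2 : (⊤ : Subgroup G) ≤ Hc.subgroupOf G := by
      rw [← sylow_sup_pPrime_eq_top (R.subtype Subgroup.le_normalizer)]
      refine sup_le (fun y hy => hRH hy) ((Subgroup.closure_le _).2 fun y hy => ?_)
      exact hG y y.2 (by rw [Subgroup.orderOf_coe]; exact hy)
    exact h2 (Subgroup.mem_top (⟨x, hx⟩ : G))
  intro n₁ hn₁ hcop k hk
  obtain ⟨s, hs, hse⟩ := mem_autInducedBy.1 (hkind hk)
  have hsn := mem_normalizer_of_aut hse
  have hke : k = conjAut P hsn := MulEquiv.ext fun y => Subtype.ext (hse y)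
  by_cases hPtop : P = preimageAlong θ U'
  · exact commutator_top h hPtop n₁.2 hk hs hsn hke
  have hP'U := image_le h hPU
  set P' := imageAlong θ P with hP'def
  obtain ⟨-, b, hb, hbbar⟩ := (mem_pre_autGroup_iff h hPU).1 n₁.2
  -- extend in `N`
  have hNfc : N.IsFullyCentralized P' := isFullyCentralized_of_isCentric hc
  have hbr : (P'.subtype.comp b.toMonoidHom).range = P' := by
    ext y
    exact ⟨fun ⟨z, hz⟩ => hz ▸ (b z).2, fun hy => ⟨b⁻¹ ⟨y, hy⟩, by simp⟩⟩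
  obtain ⟨χ, hχ, hχe⟩ := (isReceptive_of_fc (uP h) h.normal.1.1 hNfc).2 P' _
    ((mem_autGroup hP'U).1 hb) hbr
  set P1' := normalizerIn U' P' with hP1'def
  have hle1 : P1' ≤ extender U' P' (P'.subtype.comp b.toMonoidHom) := by
    intro u' hu'
    obtain ⟨⟨u, huS⟩, rfl⟩ := u_le_range h hu'.1
    have hun : u ∈ Subgroup.normalizer (P : Set Ω) := (image_normalizer h hPS hZ ⟨u, huS⟩).1 hu'.2
    have hu : u ∈ preimageAlong θ U' := mem_preimageAlong.2 ⟨huS, hu'.1⟩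
    have hcu : (⟨conjAut P hun, mem_pre_of_induced h hPU hu hun⟩ : A) ∈ (R : Subgroup A) :=
      (hRmem _).2 (conjAut_mem_autInducedBy hun huS)
    have h3 := (Subgroup.mem_normalizer_iff.1 hn₁ _).1 hcu
    obtain ⟨t, htS, hte⟩ := mem_autInducedBy.1 ((hRmem _).1 h3)
    have htn := mem_normalizer_of_aut hte
    have hce : ((n₁ * ⟨conjAut P hun, mem_pre_of_induced h hPU hu hun⟩ * n₁⁻¹ : A) : MulAut P) =
        conjAut P htn := MulEquiv.ext fun y => Subtype.ext (hte y)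
    have hbar := (hbbar.mul (Bar.conjAut hPS huS hun hu'.2)).mul hbbar.inv
    have hmem := bar_induced_mem h hPU hfnN htS htn
      (by rw [← hce]; exact (n₁ * ⟨conjAut P hun, mem_pre_of_induced h hPU hu hun⟩ * n₁⁻¹ : A).2)
      (by rw [← hce]; exact hbar)
    obtain ⟨w, hw, hwe⟩ := mem_autInducedBy.1 hmem
    refine mem_extender_of hu'.1 hu'.2 hw fun y hy => ?_
    have h4 := hwe (b y)
    rw [MulAut.mul_apply, MulAut.mul_apply, MulAut.inv_apply_self] at h4
    exact h4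
  have hχ1 := restrict_mem hχ hle1
  have hP'1 : P' ≤ P1' := le_normalizerIn hP'U
  have hv1 : ∀ y, (χ.comp (Subgroup.inclusion hle1)) y ∈ P1' := by
    intro y
    refine ⟨hom_mem hχ _, ?_⟩
    have h5 := map_mem_normalizer (Q := P') (χ.comp (Subgroup.inclusion hle1)) y y.2.2
    have h6 : (P'.subgroupOf P1').map (χ.comp (Subgroup.inclusion hle1)) = P' := by
      ext z
      rw [mem_map_subgroupOf]
      constructor
      · rintro ⟨w, hw, hwP, rfl⟩
        show χ _ ∈ P'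
        rw [show χ (Subgroup.inclusion hle1 ⟨w, hw⟩) = _ from hχe w hwP _]
        exact (b _).2
      · intro hz
        exact ⟨_, hP'1 (b⁻¹ ⟨z, hz⟩).2, (b⁻¹ ⟨z, hz⟩).2, by
          show χ _ = z
          refine (hχe _ (b⁻¹ ⟨z, hz⟩).2 _).trans ?_
          simp⟩
    rwa [h6] at h5
  obtain ⟨b1, hb1, hb1e⟩ := exists_aut_of_hom hχ1 hv1
  set P1 := preimageAlong θ P1' with hP1def
  obtain ⟨β₀, hβ₀, hβ₀e⟩ := exists_lift_aut' h (normalizerIn_le (S := U') P') hb1
  have hP1c : N.IsCentric P1' := isCentric_mono hc hP'1 (normalizerIn_le P')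
  have hfam1 : InFamily θ Z N P1 := preimage_family h hP1c
  have hPP1 : P ≤ P1 := fun y hy =>
    mem_preimageAlong.2 ⟨hPS hy, hP'1 (mem_imageAlong.2 ⟨y, hPS hy, hy, rfl⟩)⟩
  have hP1S : P1 ≤ S := preimageAlong_le
  have hlt : Nat.card (preimageAlong θ U') - Nat.card P1 < n := by
    haveI := finite_of_le hP1S
    have hne : P' ≠ U' := fun he => hPtop (by rw [← pre_image h hPS hZ, ← hP'def, he])
    have h7 : P' < P1' := lt_normalizerIn (uP h) (lt_of_le_of_ne hP'U hne)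
    have h8 : Nat.card P < Nat.card P1 := by
      refine Set.Finite.card_lt_card (Set.toFinite _) (SetLike.coe_ssubset_coe.2
        (lt_of_le_of_ne hPP1 fun he => h7.ne ?_))
      rw [hP'def, he, hP1def, imageAlong_preimageAlong (hrange h) ((normalizerIn_le P').trans (u_le h))]
    haveI : Finite (preimageAlong θ U') := finite_of_le preimageAlong_le
    have h9 : Nat.card P1 ≤ Nat.card (preimageAlong θ U') := card_le_of_le hfam1.2.1
    omega
  have hβ₀F : β₀ ∈ F.autGroup P1 := pre_le_autGroup h hfam1.2.1 hβ₀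
  have hst : ∀ y : P1, (y : Ω) ∈ P → ((β₀ y : P1) : Ω) ∈ P := by
    intro y hy
    rw [← pre_image h hPS hZ]
    refine mem_preimageAlong.2 ⟨hP1S (β₀ y).2, ?_⟩
    rw [hβ₀e y, hb1e]
    show χ ⟨θ ⟨y, hP1S y.2⟩, _⟩ ∈ P'
    rw [hχe _ (mem_imageAlong.2 ⟨y, hP1S y.2, hy, rfl⟩)]
    exact (b _).2
  have hβst : β₀ ∈ stabAut F P1 P := by
    refine ⟨hβ₀F, fun y => ⟨hst y, fun hy => ?_⟩⟩
    obtain ⟨r, -, hre⟩ := exists_aut_restrict hP1S hβ₀F hPP1 (fun z => hst _ z.2)
    obtain ⟨z, hz⟩ := r.surjective ⟨_, hy⟩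
    have h10 := hre z
    rw [hz] at h10
    rw [β₀.injective (Subtype.ext h10 : β₀ y = β₀ (Subgroup.inclusion hPP1 z))]
    exact z.2
  haveI := finite_mulAut_of_le hP1S
  obtain ⟨j, hj, hjn⟩ := exists_exponent.{u} (p := p) β₀ hcop
  set B : stabAut F P1 P := ⟨β₀, hβst⟩ ^ j with hBdef
  set r := restrAut hPP1 B with hrdef
  have hBbar : Bar θ hPS (restrAut hPP1 (⟨β₀, hβst⟩ : stabAut F P1 P)) b := fun y => by
    refine Subtype.ext ?_
    show _ = θ _
    refine Eq.trans ?_ (hβ₀e (Subgroup.inclusion hPP1 y)).symm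
    rw [hb1e]
    exact (hχe _ (toBar θ hPS y).2 _).symm
  have hbj : b ^ j = b := by
    have h11 := hjn (n₁ : MulAut P) (by rw [← SubmonoidClass.coe_pow, pow_orderOf_eq_one]; rfl)
    have h12 := hbbar.pow j
    rw [h11] at h12
    exact h12.unique hbbar
  have hrbar : Bar θ hPS r b := by
    rw [hrdef, hBdef, map_pow, ← hbj]
    exact hBbar.pow j
  have hrF : r ∈ F.autGroup P := restrAut_mem hPP1 hP1S B
  have hk'' : r⁻¹ * (n₁ : MulAut P) ∈ kerAut F Z P :=
    (mem_kerAut_iff_bar h (hP := hPS) (mul_mem (inv_mem hrF) (pre_le_autGroup h hPU n₁.2))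
      (hrbar.inv.mul hbbar)).2 (inv_mul_cancel _)
  have hrA : r ∈ A := (mem_pre_autGroup_iff h hPU).2 ⟨hrF, b, hb, hrbar⟩
  suffices hr : r * k * r⁻¹ * k⁻¹ ∈ Cfsg.Inn P by
    convert hr using 1
    have h13 := kerAut_comm h (hP := hPS) hk'' hk
    calc (n₁ : MulAut P) * k * (n₁ : MulAut P)⁻¹ * k⁻¹
        = r * ((r⁻¹ * n₁) * k) * (r⁻¹ * (n₁ : MulAut P))⁻¹ * r⁻¹ * k⁻¹ := by group
      _ = r * (k * (r⁻¹ * n₁)) * (r⁻¹ * (n₁ : MulAut P))⁻¹ * r⁻¹ * k⁻¹ := by rw [h13]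
      _ = _ := by group
  -- the kernel element extends to `P1`
  have hscent : ∀ y ∈ P', θ ⟨s, hs⟩ * y = y * θ ⟨s, hs⟩ := by
    intro y hy
    obtain ⟨x, hxS, hxP, rfl⟩ := mem_imageAlong.1 hy
    have hz := hk.2 ⟨x, hxP⟩
    rw [hke, coe_conjAut] at hz
    have h1 := (hker h (⟨x, hxS⟩⁻¹ * (⟨s, hs⟩ * ⟨x, hxS⟩ * ⟨s, hs⟩⁻¹))).2 hz
    simp only [map_mul, map_inv, inv_mul_eq_one] at h1
    exact mul_inv_eq_iff_eq_mul.1 h1.symm
  have hs1' : θ ⟨s, hs⟩ ∈ Subgroup.normalizer ((P1' : Subgroup Ω') : Set Ω') := by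
    refine mem_normalizer_inf ⟨stronglyClosed_le_normalizer h.normal.1.2.2.2.1 ((hrange h).le ⟨_, rfl⟩), ?_⟩
    exact Subgroup.le_normalizer ((image_normalizer h hPS hZ ⟨s, hs⟩).2 hsn)
  have hs1 : s ∈ Subgroup.normalizer (P1 : Set Ω) :=
    (conj_induced (hker h) (hrange h) ((normalizerIn_le P').trans (u_le h)) ⟨s, hs⟩).2 hs1'
  set Γ : stabAut F P1 P := ⟨conjAut P1 hs1, conjAut_mem_stabAut hP1S hs hs1 hsn⟩ with hΓdef
  have hΓk : restrAut hPP1 Γ = k := MulEquiv.ext fun y => Subtype.ext (hse y).symm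
  set ρ : stabAut F P1 P := B * Γ * B⁻¹ * Γ⁻¹ with hρdef
  set d := r * k * r⁻¹ * k⁻¹ with hddef
  have hρd : restrAut hPP1 ρ = d := by
    rw [hρdef, map_mul, map_mul, map_mul, map_inv, map_inv, hΓk]
  have hdk : d ∈ kerAut F Z P := mul_mem (kerAut_conj h (hP := hPS) hrF hk) (inv_mem hk)
  have hBA : (B : MulAut P1) ∈ (preSystem θ F N).autGroup P1 := by
    rw [hBdef, SubmonoidClass.coe_pow]
    exact pow_mem hβ₀ j
  have hρA : (ρ : MulAut P1) ∈ (preSystem θ F N).autGroup P1 := by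
    have h14 := conj_mem_pre h hfam1.2.1 Γ.2.1 (inv_mem hBA)
    have h15 := mul_mem hBA h14
    convert h15 using 1
    simp [hρdef, mul_assoc]
  obtain ⟨-, bρ, hbρ, hρbar⟩ := (mem_pre_autGroup_iff h hfam1.2.1).1 hρA
  have hPP1' : imageAlong θ P ≤ imageAlong θ P1 := Subgroup.map_mono fun _ hy => hPP1 hy
  have hfix : ∀ y : imageAlong θ P1, (y : Ω') ∈ P' → bρ y = y := by
    intro y hy
    obtain ⟨x, hxS, hxP, hxy⟩ := mem_imageAlong.1 hy
    have e0 : y = toBar θ hP1S (Subgroup.inclusion hPP1 ⟨x, hxP⟩) := Subtype.ext hxy.symm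
    rw [e0, hρbar]
    refine ((toBar_eq_iff h _ _).2 ?_).symm
    have h16 := hdk.2 ⟨x, hxP⟩
    rw [← hρd, coe_restrAut] at h16
    exact h16
  obtain ⟨z, hzP, -, hze⟩ := centric_ext_unique (uP h) h.normal.1.1 hc hPP1'
    (subtype_mem N (image_le h hfam1.2.1)) ((mem_autGroup (image_le h hfam1.2.1)).1 hbρ)
    (fun y hy => (congrArg Subtype.val (hfix y hy)).symm)
  obtain ⟨u0, hu0S, hu0P, hu0z⟩ := mem_imageAlong.1 hzP
  have hu0n : u0 ∈ Subgroup.normalizer (P : Set Ω) := Subgroup.le_normalizer hu0P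
  have hu0n1 : u0 ∈ Subgroup.normalizer (P1 : Set Ω) := Subgroup.le_normalizer (hPP1 hu0P)
  set Cu : stabAut F P1 P := ⟨conjAut P1 hu0n1, conjAut_mem_stabAut hP1S hu0S hu0n1 hu0n⟩ with hCdef
  set κ : stabAut F P1 P := Cu⁻¹ * ρ with hκdef
  have hκker : (κ : MulAut P1) ∈ kerAut F Z P1 := by
    have hzn : θ ⟨u0, hu0S⟩ ∈ Subgroup.normalizer ((imageAlong θ P1 : Subgroup Ω') : Set Ω') :=
      (image_normalizer h hP1S hfam1.1 ⟨u0, hu0S⟩).2 hu0n1
    refine (mem_kerAut_iff_bar h (hP := hP1S) κ.2.1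
      ((Bar.conjAut hP1S hu0S hu0n1 hzn).inv.mul hρbar)).2 ?_
    rw [inv_mul_eq_one]
    refine MulEquiv.ext fun y => Subtype.ext ?_
    rw [coe_conjAut, hu0z]
    exact (hze y).symm
  have hres : ∀ X : stabAut F P1 P, (X : MulAut P1) ∈ Cfsg.Inn P1 → restrAut hPP1 X ∈ kerAut F Z P →
      restrAut hPP1 X ∈ Cfsg.Inn P := by
    rintro X ⟨w, hw⟩ hXk
    have hwn : (w : Ω) ∈ Subgroup.normalizer (P : Set Ω) := mem_normalizer_of_aut
      (α := restrAut hPP1 X) fun y => by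
        rw [coe_restrAut, ← hw]
        rfl
    have e0 : restrAut hPP1 X = conjAut P hwn := MulEquiv.ext fun y => Subtype.ext (by
      rw [coe_restrAut, ← hw]; rfl)
    rw [e0] at hXk ⊢
    exact inn_of_ker_induced h hP (hfam1.2.1 w.2) hwn hXk
  have hκd : restrAut hPP1 κ = (conjAut P hu0n)⁻¹ * d := by
    rw [hκdef, map_mul, map_inv, hρd]
    rfl
  have hκP : restrAut hPP1 κ ∈ kerAut F Z P := ⟨restrAut_mem hPP1 hP1S κ, fun y => by
    rw [coe_restrAut]; exact hκker.2 (Subgroup.inclusion hPP1 y)⟩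
  have hih := ih _ hlt P1 rfl hfam1 _ hBA _ hκker
  have hd' : r * restrAut hPP1 κ * r⁻¹ * (restrAut hPP1 κ)⁻¹ ∈ Cfsg.Inn P := by
    have h17 := hres (B * κ * B⁻¹ * κ⁻¹) (by
      simp only [Subgroup.coe_mul, Subgroup.coe_inv]; exact hih)
    rw [map_mul, map_mul, map_mul, map_inv, map_inv] at h17
    exact h17 (mul_mem (kerAut_conj h (hP := hPS) hrF hκP) (inv_mem hκP))
  have hcu0 : conjAut P hu0n ∈ Cfsg.Inn P := conjAut_mem_inn hu0P _
  have hrd : r * d * r⁻¹ * d⁻¹ ∈ Cfsg.Inn P := by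
    have h18 := mul_mem (mul_mem (inn_conj r hcu0) hd') (inv_mem hcu0)
    convert h18 using 1
    rw [hκd]; group
  -- coprime action
  let π := QuotientGroup.mk' (Cfsg.Inn P)
  have q1 : π r * π k * (π r)⁻¹ = π d * π k := by
    rw [← map_inv, ← map_mul, ← map_mul, ← map_mul, hddef, inv_mul_cancel_right]
  have q2 : Commute (π r) (π d) := by
    have h19 : π (r * d * r⁻¹ * d⁻¹) = 1 := (QuotientGroup.eq_one_iff _).2 hrd
    rw [map_mul, map_mul, map_mul, map_inv, map_inv, mul_inv_eq_one, mul_inv_eq_iff_eq_mul] at h19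
    exact h19
  have q3 : ∀ i : ℕ, π r ^ i * π k * (π r ^ i)⁻¹ = π d ^ i * π k := by
    intro i
    induction i with
    | zero => simp
    | succ i hi =>
      calc π r ^ (i + 1) * π k * (π r ^ (i + 1))⁻¹
          = π r * (π r ^ i * π k * (π r ^ i)⁻¹) * (π r)⁻¹ := by rw [pow_succ']; group
        _ = π r * π d ^ i * (π r)⁻¹ * (π r * π k * (π r)⁻¹) := by rw [hi]; group
        _ = π d ^ i * (π r * π k * (π r)⁻¹) := by
          rw [(q2.pow_right i).eq, mul_inv_cancel_right]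
        _ = π d ^ (i + 1) * π k := by rw [q1, pow_succ, mul_assoc]
  have hrm : r ^ orderOf (β₀ ^ j) = 1 := by
    rw [hrdef, ← map_pow, show B ^ orderOf (β₀ ^ j) = 1 from Subtype.ext (by
      rw [hBdef, SubmonoidClass.coe_pow, SubmonoidClass.coe_pow]; exact pow_orderOf_eq_one _), map_one]
  have q4 : π d ^ orderOf (β₀ ^ j) = 1 := by
    have h20 := q3 (orderOf (β₀ ^ j))
    rw [← map_pow π r, hrm, map_one, one_mul, inv_one, mul_one] at h20
    exact (right_eq_mul.1 h20)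
  obtain ⟨e', he'⟩ := isPGroup_kerAut h hPS ⟨d, hdk⟩
  have q5 : π d ^ p ^ e' = 1 := by
    rw [← map_pow, show d ^ p ^ e' = 1 from congrArg Subtype.val he', map_one]
  have q6 : π d = 1 := orderOf_eq_one_iff.1 (Nat.eq_one_of_dvd_coprimes (hj.pow_right e')
    (orderOf_dvd_of_pow_eq_one q4) (orderOf_dvd_of_pow_eq_one q5))
  exact (QuotientGroup.eq_one_iff _).1 q6

/-- The general form. -/
theorem commutator_inn [Finite S] [Fact p.Prime] (hP : InFamily θ Z N P) {a k : MulAut P}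
    (ha : a ∈ (preSystem θ F N).autGroup P) (hk : k ∈ kerAut F Z P) :
    a * k * a⁻¹ * k⁻¹ ∈ Cfsg.Inn P :=
  commutator_mem_inn h _ P rfl hP a ha k hk

end

end Cfsg.Lib.FusionSys.CentralLift
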