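import Cfsg.Agent.Lib.FusionSys.CentralLift.Transfer
import Cfsg.Agent.Lib.FusionSys.SatFamily

/-!
Extension of automorphisms in the generated system, given that its automizer is separated from the
kernel.
-/

set_option autoImplicit false
set_option linter.style.haveILetI false

namespace Cfsg.Lib.FusionSys.CentralLift

open Cfsg Cfsg.FusionSystem Cfsg.Lib.FusionSys
open scoped Pointwise

universe u v

variable {Ω : Type u} [Group Ω] {S : Subgroup Ω} {Ω' : Type v} [Group Ω'] {S' : Subgroup Ω'}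
  {U' : Subgroup Ω'} {p : ℕ} {F : FusionSystem S} {Z : Subgroup Ω} {θ : S →* Ω'}
  {E : FusionSystem S'} {N : FusionSystem U'} {P Q R : Subgroup Ω}

/-- The elements of `V` inducing an automorphism in `X`. -/
def indPre (V Q : Subgroup Ω) (X : Subgroup (MulAut Q)) : Subgroup Ω :=
  (X.comap Q.normalizerMonoidHom).map (Subgroup.normalizer (Q : Set Ω)).subtype ⊓ V

theorem mem_indPre {V Q : Subgroup Ω} {X : Subgroup (MulAut Q)} {u : Ω} :
    u ∈ indPre V Q X ↔ u ∈ V ∧ ∃ hn : u ∈ Subgroup.normalizer (Q : Set Ω), conjAut Q hn ∈ X := by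
  constructor
  · rintro ⟨⟨⟨w, hw⟩, hX, rfl⟩, hV⟩
    exact ⟨hV, hw, hX⟩
  · rintro ⟨hV, hn, hX⟩
    exact ⟨⟨⟨u, hn⟩, hX, rfl⟩, hV⟩

theorem indPre_le {V Q : Subgroup Ω} {X : Subgroup (MulAut Q)} : indPre V Q X ≤ V := inf_le_right

theorem indPre_mono {V Q : Subgroup Ω} {X Y : Subgroup (MulAut Q)} (hXY : X ≤ Y) :
    indPre V Q X ≤ indPre V Q Y := fun _ hu => by
  obtain ⟨hV, hn, hX⟩ := mem_indPre.1 hu
  exact mem_indPre.2 ⟨hV, hn, hXY hX⟩

theorem le_indPre {V Q : Subgroup Ω} {X : Subgroup (MulAut Q)} (hQ : Q ≤ V)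
    (hX : Cfsg.Inn Q ≤ X) : Q ≤ indPre V Q X := fun _ hq =>
  mem_indPre.2 ⟨hQ hq, Subgroup.le_normalizer hq, hX (conjAut_mem_inn hq _)⟩

/-- `a` extends in `K` to the elements inducing automorphisms in `X`. -/
def ExtAut {V : Subgroup Ω} (K : FusionSystem V) {Q : Subgroup Ω} (a : MulAut Q)
    (X : Subgroup (MulAut Q)) : Prop :=
  ∃ φ ∈ K.Hom (indPre V Q X), ∀ (x : Q) (hx : (x : Ω) ∈ indPre V Q X), φ ⟨x, hx⟩ = (a x : Ω)

theorem ExtAut.mono {V : Subgroup Ω} {K : FusionSystem V} {a : MulAut Q} {X Y : Subgroup (MulAut Q)}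
    (h : ExtAut K a Y) (hXY : X ≤ Y) : ExtAut K a X := by
  obtain ⟨φ, hφ, he⟩ := h
  exact ⟨_, restrict_mem hφ (indPre_mono hXY), fun x hx => he x (indPre_mono hXY hx)⟩

theorem ExtAut.apply_mem {V : Subgroup Ω} {K : FusionSystem V} {a : MulAut Q}
    {X Y : Subgroup (MulAut Q)} (hQ : Q ≤ indPre V Q X) {φ : indPre V Q X →* Ω}
    (hφ : φ ∈ K.Hom (indPre V Q X))
    (he : ∀ (x : Q) (hx : (x : Ω) ∈ indPre V Q X), φ ⟨x, hx⟩ = (a x : Ω))
    (hY : ∀ c ∈ X, a * c * a⁻¹ ∈ Y) (u : indPre V Q X) : φ u ∈ indPre V Q Y := by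
  obtain ⟨huV, hun, huX⟩ := mem_indPre.1 u.2
  have hmap : (Q.subgroupOf (indPre V Q X)).map φ = Q :=
    map_subgroupOf_eq (e := (a : Q ≃* Q)) hQ fun x hx hN => he ⟨x, hx⟩ hN
  have hn : φ u ∈ Subgroup.normalizer (Q : Set Ω) := by
    have := map_mem_normalizer (Q := Q) φ u hun
    rwa [hmap] at this
  refine mem_indPre.2 ⟨hom_mem hφ u, hn, ?_⟩
  have e : conjAut Q hn = a * conjAut Q hun * a⁻¹ := by
    refine MulEquiv.ext fun y => Subtype.ext ?_
    obtain ⟨x, rfl⟩ := a.surjective y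
    rw [MulAut.mul_apply, MulAut.mul_apply, MulAut.inv_apply_self, coe_conjAut, ← he x (hQ x.2),
      ← he (conjAut Q hun x) (hQ (conjAut Q hun x).2), ← map_inv, ← map_mul, ← map_mul]
    rfl
  rw [e]
  exact hY _ huX

theorem ExtAut.comp {V : Subgroup Ω} {K : FusionSystem V} {a b : MulAut Q}
    {X Y : Subgroup (MulAut Q)} (hQ : Q ≤ indPre V Q X) (ha : ExtAut K a X) (hb : ExtAut K b Y)
    (hY : ∀ c ∈ X, a * c * a⁻¹ ∈ Y) : ExtAut K (b * a) X := by
  obtain ⟨φ, hφ, he⟩ := ha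
  obtain ⟨ψ, hψ, he'⟩ := hb
  have hv := ExtAut.apply_mem hQ hφ he hY
  refine ⟨_, K.comp_mem hφ hψ hv, fun x hx => ?_⟩
  show ψ ⟨φ ⟨x, hx⟩, _⟩ = _
  have h1 : (⟨φ ⟨x, hx⟩, hv _⟩ : indPre V Q Y) = ⟨(a x : Ω), (he x hx) ▸ hv _⟩ :=
    Subtype.ext (he x hx)
  rw [h1, he' (a x)]
  rfl

theorem extAut_conj {V : Subgroup Ω} (K : FusionSystem V) {n : Ω} (hn : n ∈ V)
    (hnQ : n ∈ Subgroup.normalizer (Q : Set Ω)) (X : Subgroup (MulAut Q)) :
    ExtAut K (conjAut Q hnQ) X :=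
  ⟨_, K.conj_mem indPre_le hn, fun _ _ => rfl⟩

/-- A Sylow subgroup inside the induced automorphisms moves to the image of a conjugation. -/
def congrStab {G : Type*} [Group G] (γ : G) {H H' : Subgroup G} (h : ∀ x, x ∈ H ↔ γ * x * γ⁻¹ ∈ H') :
    H ≃* H' where
  toFun x := ⟨γ * x * γ⁻¹, (h x).1 x.2⟩
  invFun y := ⟨γ⁻¹ * y * γ, by rw [h]; simp [mul_assoc]⟩
  left_inv x := Subtype.ext (by simp [mul_assoc])
  right_inv y := Subtype.ext (by simp [mul_assoc])
  map_mul' x y := Subtype.ext (by simp [mul_assoc])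

section

variable (h : CSetup p F Z θ E N)
include h

theorem gen_autGroup_le_F [Finite S] [Fact p.Prime] (hQU : Q ≤ preimageAlong θ U') :
    (genSystem θ Z p F N).autGroup Q ≤ F.autGroup Q :=
  (gen_autGroup_le hQU).trans (pre_le_autGroup h hQU)

/-- The induced automorphisms form a Sylow subgroup of the generated automizer. -/
theorem exists_sylow_induced [Finite S] [Fact p.Prime] (hQ : InFamily θ Z N Q)
    {B : Subgroup (MulAut Q)} (hB : KerData θ Z p F N Q B)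
    (hle : (genSystem θ Z p F N).autGroup Q ≤ B) :
    ∃ W : Sylow p ((genSystem θ Z p F N).autGroup Q),
      (W : Subgroup ((genSystem θ Z p F N).autGroup Q)) =
        (autInducedBy (preimageAlong θ U') Q).subgroupOf ((genSystem θ Z p F N).autGroup Q) := by
  set G := (genSystem θ Z p F N).autGroup Q
  set C := autInducedBy (preimageAlong θ U') Q
  haveI := finite_mulAut_of_le (hQ.2.1.trans (preimageAlong_le (θ := θ) (P' := U')))
  have hp : IsPGroup p (C.subgroupOf G) := (isPGroup_autInducedBy (preP h)).comap_subtype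
  obtain ⟨W, hW⟩ := hp.exists_le_sylow
  refine ⟨W, (Subgroup.eq_of_le_of_card_ge hW ?_).symm⟩
  obtain ⟨g, -, hg⟩ := hB.sylow ((W : Subgroup G).map G.subtype) (W.isPGroup'.map _)
    ((Subgroup.map_subtype_le _).trans (gen_autGroup_le hQ.2.1)) ((Subgroup.map_subtype_le _).trans hle)
  have h1 : Nat.card (W : Subgroup G) ≤ Nat.card C :=
    Nat.card_le_card_of_injective
      (fun x => (⟨g * ((x : G) : MulAut Q) * g⁻¹, hg _ ⟨x, x.2, rfl⟩⟩ : C)) fun a b hab => by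
        have := congrArg Subtype.val hab
        exact Subtype.ext (Subtype.ext (mul_left_cancel (mul_right_cancel this)))
  rwa [Nat.card_congr (Subgroup.subgroupOfEquivOfLe (autInducedBy_le_autGroup hQ.2.1)).toEquiv]

theorem gen_fullyAutomized [Finite S] [Fact p.Prime] (hQ : InFamily θ Z N Q)
    {B : Subgroup (MulAut Q)} (hB : KerData θ Z p F N Q B)
    (hle : (genSystem θ Z p F N).autGroup Q ≤ B) :
    (genSystem θ Z p F N).IsFullyAutomized p Q :=
  ⟨hQ.2.1, exists_sylow_induced h hQ hB hle⟩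

/-- An automorphism of order prime to `p` normalizing `X` extends. -/
theorem extAut_of_coprime [Finite S] [Fact p.Prime] (hQ : InFamily θ Z N Q)
    {B : Subgroup (MulAut Q)} (hB : KerData θ Z p F N Q B)
    (hle : (genSystem θ Z p F N).autGroup Q ≤ B) {X : Subgroup (MulAut Q)}
    (hIX : Cfsg.Inn Q ≤ X) (hXC : X ≤ autInducedBy (preimageAlong θ U') Q) {r : MulAut Q}
    (hr : r ∈ (genSystem θ Z p F N).autGroup Q) (hrX : ∀ c ∈ X, r * c * r⁻¹ ∈ X)
    (hcop : (orderOf r).Coprime p) : ExtAut (genSystem θ Z p F N) r X := by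
  haveI := efinite h
  haveI := ufinite h
  haveI : Finite (preimageAlong θ U') := finite_of_le preimageAlong_le
  obtain ⟨hZ, hQU, hcen⟩ := id hQ
  have hQS : Q ≤ S := hQU.trans preimageAlong_le
  have hQ'U := image_le h hQU
  set D := indPre (preimageAlong θ U') Q X with hD
  have hQD : Q ≤ D := le_indPre hQU hIX
  have hDU : D ≤ preimageAlong θ U' := indPre_le
  have hDS : D ≤ S := hDU.trans preimageAlong_le
  have hDfam : InFamily θ Z N D := family_mono h hQ hQD hDU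
  have hrA := gen_autGroup_le hQU hr
  obtain ⟨-, b, hb, hrb⟩ := (mem_pre_autGroup_iff h hQU).1 hrA
  have hbr : ((imageAlong θ Q).subtype.comp b.toMonoidHom).range = imageAlong θ Q := by
    ext y
    exact ⟨fun ⟨z, hz⟩ => hz ▸ (b z).2, fun hy => ⟨b⁻¹ ⟨y, hy⟩, by simp⟩⟩
  obtain ⟨χ, hχ, hχe⟩ := (isReceptive_of_fc (uP h) h.normal.1.1
    (isFullyCentralized_of_isCentric hcen)).2 _ _ ((mem_autGroup hQ'U).1 hb) hbr
  -- the images of the generators of the domain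
  have hdata : ∀ (u : Ω) (hu : u ∈ D), ∃ (w : Ω) (hwS : w ∈ S), w ∈ D ∧
      θ ⟨w, hwS⟩ ∈ U' ∧ ∀ (y : imageAlong θ Q) (hy : θ ⟨u, hDS hu⟩ * y * (θ ⟨u, hDS hu⟩)⁻¹ ∈ imageAlong θ Q),
        (b ⟨_, hy⟩ : Ω') = θ ⟨w, hwS⟩ * (b y : Ω') * (θ ⟨w, hwS⟩)⁻¹ := by
    intro u hu
    obtain ⟨huV, hun, huX⟩ := mem_indPre.1 hu
    obtain ⟨w, hw, hwe⟩ := mem_autInducedBy.1 (hXC (hrX _ huX))
    have hwn := mem_normalizer_of_aut hwe
    have e : r * conjAut Q hun * r⁻¹ = conjAut Q hwn := MulEquiv.ext fun y => Subtype.ext (hwe y)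
    obtain ⟨hwS, hw'⟩ := mem_preimageAlong.1 hw
    have hun' := (image_normalizer h hQS hZ ⟨u, hDS hu⟩).2 hun
    have hwn' := (image_normalizer h hQS hZ ⟨w, hwS⟩).2 hwn
    refine ⟨w, hwS, mem_indPre.2 ⟨hw, hwn, e ▸ hrX _ huX⟩, hw', fun y hy => ?_⟩
    have e0 := (e ▸ (hrb.mul (Bar.conjAut hQS (hDS hu) hun hun')).mul hrb.inv).unique
      (Bar.conjAut hQS hwS hwn hwn')
    have := congrArg (fun f : MulAut (imageAlong θ Q) => ((f (b y) : imageAlong θ Q) : Ω')) e0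
    simp only [MulAut.mul_apply, MulAut.inv_apply_self] at this
    rw [coe_conjAut] at this
    exact this
  have hD'U := image_le h hDU
  have hle1 : imageAlong θ D ≤
      extender U' (imageAlong θ Q) ((imageAlong θ Q).subtype.comp b.toMonoidHom) := by
    intro u' hu'
    obtain ⟨u, huS, hu, rfl⟩ := mem_imageAlong.1 hu'
    obtain ⟨w, hwS, -, hw', hwe⟩ := hdata u hu
    exact mem_extender_of (hD'U hu') ((image_normalizer h hQS hZ ⟨u, huS⟩).2 (mem_indPre.1 hu).2.1)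
      hw' hwe
  have hQ'D : imageAlong θ Q ≤ imageAlong θ D := Subgroup.map_mono fun _ hx => hQD hx
  have hχ1 := restrict_mem hχ hle1
  have hv1 : ∀ y, (χ.comp (Subgroup.inclusion hle1)) y ∈ imageAlong θ D := by
    intro y
    obtain ⟨u, huS, hu, hy⟩ := mem_imageAlong.1 y.2
    obtain ⟨w, hwS, hwD, hw', hwe⟩ := hdata u hu
    have hwD' : θ ⟨w, hwS⟩ ∈ imageAlong θ D := mem_imageAlong.2 ⟨w, hwS, hwD, rfl⟩
    set z := (χ.comp (Subgroup.inclusion hle1)) y with hz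
    have hzU : z ∈ U' := hom_mem hχ1 y
    suffices hd : (θ ⟨w, hwS⟩)⁻¹ * z ∈ imageAlong θ Q by
      have := mul_mem hwD' (hQ'D hd)
      rwa [mul_inv_cancel_left] at this
    refine hcen.2 _ (isConj_refl N hQ'U) (mem_centralizerIn.2 ⟨U'.mul_mem (U'.inv_mem hw') hzU, fun q hq => ?_⟩)
    obtain ⟨q₀, hq₀⟩ := (b : imageAlong θ Q ≃* _).surjective ⟨q, hq⟩
    have hun' := (image_normalizer h hQS hZ ⟨u, huS⟩).2 (mem_indPre.1 hu).2.1
    have hy1 : θ ⟨u, huS⟩ * q₀ * (θ ⟨u, huS⟩)⁻¹ ∈ imageAlong θ Q :=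
      (Subgroup.mem_normalizer_iff.1 hun' _).1 q₀.2
    have hq' : (q₀ : Ω') ∈ imageAlong θ D := hQ'D q₀.2
    have h1 : (χ.comp (Subgroup.inclusion hle1)) ⟨q₀, hq'⟩ = q :=
      (hχe _ q₀.2 _).trans (congrArg Subtype.val hq₀)
    have hy2 : ((y * ⟨q₀, hq'⟩ * y⁻¹ : imageAlong θ D) : Ω') =
        θ ⟨u, huS⟩ * q₀ * (θ ⟨u, huS⟩)⁻¹ := by
      show (y : Ω') * q₀ * (y : Ω')⁻¹ = _
      rw [hy]
    have h2 : z * q * z⁻¹ = θ ⟨w, hwS⟩ * q * (θ ⟨w, hwS⟩)⁻¹ := by
      have h3 := hwe q₀ hy1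
      rw [show ((b q₀ : imageAlong θ Q) : Ω') = q from congrArg Subtype.val hq₀] at h3
      rw [← h3, ← h1, hz, ← map_inv, ← map_mul, ← map_mul]
      refine (congrArg χ (Subtype.ext (hy2 : _ = _))).trans (hχe _ hy1 (hle1 (hy2 ▸ (y * ⟨q₀, hq'⟩ * y⁻¹).2)))
    calc (θ ⟨w, hwS⟩)⁻¹ * z * q = (θ ⟨w, hwS⟩)⁻¹ * (z * q * z⁻¹) * z := by group
      _ = q * ((θ ⟨w, hwS⟩)⁻¹ * z) := by rw [h2]; group
  obtain ⟨b1, hb1, hb1e⟩ := exists_aut_of_hom hχ1 hv1
  obtain ⟨a1, ha1, ha1b⟩ := exists_lift_aut h hDfam.1 hDU hb1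
  -- restrict to `Q`
  have hst : ∀ x : Q, ((a1 (Subgroup.inclusion hQD x) : D) : Ω) ∈ Q := by
    intro x
    refine (pre_image h hQS hZ).le (mem_preimageAlong.2 ⟨hDS (a1 _).2, ?_⟩)
    have h1 := congrArg Subtype.val (ha1b (Subgroup.inclusion hQD x))
    rw [coe_toBar, hb1e] at h1
    rw [← h1]
    show χ _ ∈ _
    refine (hχe _ (toBar θ hQS x).2 _).symm ▸ (b _).2
  obtain ⟨r0, hr0, hr0e⟩ := exists_aut_restrict hDU ha1 hQD hst
  have hr0b : Bar θ hQS r0 b := fun x => by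
    refine Subtype.ext ?_
    have h1 := congrArg Subtype.val (ha1b (Subgroup.inclusion hQD x))
    rw [hb1e] at h1
    refine Eq.trans ?_ (h1.trans ?_)
    · exact (hχe _ (toBar θ hQS x).2 _).symm
    · exact congrArg θ (Subtype.ext (hr0e x).symm)
  haveI := finite_mulAut_of_le hDS
  obtain ⟨j, hj, hjn⟩ := exists_exponent.{v} (p := p) a1 hcop
  have hbn : b ^ orderOf r = 1 := by
    have h1 := hrb.pow (orderOf r)
    rw [pow_orderOf_eq_one] at h1
    exact h1.unique (Bar.one hQS)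
  have hbj : b ^ j = b := hjn b hbn
  have ha1M : a1 ^ j ∈ (genSystem θ Z p F N).autGroup D :=
    coprime_mem_gen hDfam (pow_mem ha1 j) hj
  have hagree : ∀ x : Q, (((r0 ^ j) x : Q) : Ω) = (((a1 ^ j) (Subgroup.inclusion hQD x) : D) : Ω) :=
    fun x => aut_pow_agree hQD hr0e j x
  have hr0M : r0 ^ j ∈ (genSystem θ Z p F N).autGroup Q :=
    (mem_autGroup hQU).2 (hom_congr (restrict_mem ((mem_autGroup hDU).1 ha1M) hQD) hagree)
  have hk : (r0 ^ j)⁻¹ * r ∈ kerAut F Z Q := by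
    refine (mem_kerAut_iff_bar h (hP := hQS)
      (gen_autGroup_le_F h hQU (mul_mem (inv_mem hr0M) hr)) ((hr0b.pow j).inv.mul hrb)).2 ?_
    rw [hbj, inv_mul_cancel]
  obtain ⟨q, hq⟩ := hB.ker_inn _ hk (mul_mem (inv_mem (hle hr0M)) (hle hr))
  have hqn : (q : Ω) ∈ Subgroup.normalizer (Q : Set Ω) := Subgroup.le_normalizer q.2
  have hqe : (r0 ^ j)⁻¹ * r = conjAut Q hqn := by
    rw [← hq]
    exact MulEquiv.ext fun x => Subtype.ext rfl
  rw [show r = r0 ^ j * conjAut Q hqn by rw [← hqe, mul_inv_cancel_left]]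
  refine ExtAut.comp hQD (extAut_conj _ (hQU q.2) hqn X)
    ⟨_, (mem_autGroup hDU).1 ha1M, fun x hx => (hagree x).symm⟩ fun c hc => ?_
  exact mul_mem (mul_mem (hIX (conjAut_mem_inn q.2 hqn)) hc) (inv_mem (hIX (conjAut_mem_inn q.2 hqn)))

/-- An automorphism normalizing `X` extends when a Sylow subgroup of the normalizer is induced. -/
theorem extAut_normalizing [Finite S] [Fact p.Prime] (hQ : InFamily θ Z N Q)
    {B : Subgroup (MulAut Q)} (hB : KerData θ Z p F N Q B)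
    (hle : (genSystem θ Z p F N).autGroup Q ≤ B) {X : Subgroup (MulAut Q)}
    (hIX : Cfsg.Inn Q ≤ X) (hXC : X ≤ autInducedBy (preimageAlong θ U') Q)
    (W : Sylow p ↥((genSystem θ Z p F N).autGroup Q ⊓ Subgroup.normalizer (X : Set (MulAut Q))))
    (hW : ∀ x ∈ W, ((x : _) : MulAut Q) ∈ autInducedBy (preimageAlong θ U') Q) {n : MulAut Q}
    (hn : n ∈ (genSystem θ Z p F N).autGroup Q ⊓ Subgroup.normalizer (X : Set (MulAut Q))) :
    ExtAut (genSystem θ Z p F N) n X := by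
  haveI := finite_mulAut_of_le (hQ.2.1.trans (preimageAlong_le (θ := θ) (P' := U')))
  have hQD : Q ≤ indPre (preimageAlong θ U') Q X := le_indPre hQ.2.1 hIX
  have hbase : ∀ y : ↥((genSystem θ Z p F N).autGroup Q ⊓ Subgroup.normalizer (X : Set (MulAut Q))), (y ∈ W ∨ (orderOf y).Coprime p) → ExtAut (genSystem θ Z p F N) (y : MulAut Q) X := by
    intro y hy
    rcases hy with hy | hy
    · obtain ⟨t, ht, hte⟩ := mem_autInducedBy.1 (hW y hy)
      have htn := mem_normalizer_of_aut hte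
      rw [show (y : MulAut Q) = conjAut Q htn from MulEquiv.ext fun x => Subtype.ext (hte x)]
      exact extAut_conj _ ht htn X
    · exact extAut_of_coprime h hQ hB hle hIX hXC y.2.1
        (fun c hc => (Subgroup.mem_normalizer_iff.1 y.2.2 c).1 hc) (by rwa [Subgroup.orderOf_coe])
  have h1 : (1 : MulAut Q) = conjAut Q (Subgroup.one_mem _) := (map_one Q.normalizerMonoidHom).symm
  suffices hall : ∀ y ∈ Submonoid.closure ({y : ↥((genSystem θ Z p F N).autGroup Q ⊓ Subgroup.normalizer (X : Set (MulAut Q))) | y ∈ W ∨ (orderOf y).Coprime p}),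
      ExtAut (genSystem θ Z p F N) (y : MulAut Q) X by
    refine hall ⟨n, hn⟩ ?_
    have hfin : ∀ s : Set ↥((genSystem θ Z p F N).autGroup Q ⊓ Subgroup.normalizer (X : Set (MulAut Q))), Submonoid.closure s = (Subgroup.closure s).toSubmonoid := fun s =>
      Subgroup.closure_toSubmonoid_of_finite.symm
    rw [hfin, Subgroup.mem_toSubmonoid]
    have h2 := sylow_sup_pPrime_eq_top W
    rw [← Subgroup.closure_eq (W : Subgroup ↥((genSystem θ Z p F N).autGroup Q ⊓ Subgroup.normalizer (X : Set (MulAut Q)))), ← Subgroup.closure_union] at h2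
    exact h2.ge (Subgroup.mem_top _)
  intro y hy
  induction hy using Submonoid.closure_induction with
  | mem y hy => exact hbase y hy
  | one =>
    rw [Subgroup.coe_one, h1]
    exact extAut_conj _ (Subgroup.one_mem _) _ X
  | mul y z _ _ iy iz =>
    exact ExtAut.comp hQD iz iy fun c hc => (Subgroup.mem_normalizer_iff.1 z.2.2 c).1 hc

/-- Every automorphism extends as far as it conjugates induced automorphisms to induced ones. -/
theorem extAut_of_conj [Finite S] [Fact p.Prime] (hQ : InFamily θ Z N Q)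
    {B : Subgroup (MulAut Q)} (hB : KerData θ Z p F N Q B)
    (hle : (genSystem θ Z p F N).autGroup Q ≤ B) :
    ∀ (m : ℕ) (X : Subgroup (MulAut Q)) (a : MulAut Q),
      Nat.card (autInducedBy (preimageAlong θ U') Q) - Nat.card X = m →
      a ∈ (genSystem θ Z p F N).autGroup Q → Cfsg.Inn Q ≤ X →
      X ≤ autInducedBy (preimageAlong θ U') Q →
      (∀ c ∈ X, a * c * a⁻¹ ∈ autInducedBy (preimageAlong θ U') Q) →
      ExtAut (genSystem θ Z p F N) a X := by
  have hQS : Q ≤ S := hQ.2.1.trans preimageAlong_le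
  haveI := finite_mulAut_of_le hQS
  set G := (genSystem θ Z p F N).autGroup Q with hG
  set C := autInducedBy (preimageAlong θ U') Q with hC
  have hCG : C ≤ G := autInducedBy_le_autGroup hQ.2.1
  have hCp : IsPGroup p C := isPGroup_autInducedBy (preP h)
  obtain ⟨WC, hWC⟩ := exists_sylow_induced h hQ hB hle
  intro m
  induction m using Nat.strong_induction_on with
  | _ m ih =>
  intro X a hm ha hIX hXC haX
  set X2 := X.map (MulAut.conj a).toMonoidHom with hX2def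
  have hX2 : ∀ c ∈ X2, c ∈ C := by rintro _ ⟨c, hc, rfl⟩; exact haX c hc
  have hcard : Nat.card X2 = Nat.card X :=
    (Nat.card_congr (X.equivMapOfInjective _ (MulAut.conj a).injective).toEquiv).symm
  by_cases hXeq : X = C
  · subst hXeq
    have han : a ∈ Subgroup.normalizer ((autInducedBy (preimageAlong θ U') Q : Subgroup _) : Set (MulAut Q)) := by
      have he : X2 = autInducedBy (preimageAlong θ U') Q := Subgroup.eq_of_le_of_card_ge hX2 hcard.ge
      refine Subgroup.mem_normalizer_iff.2 fun c => ⟨haX c, fun hc => ?_⟩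
      rw [← he] at hc
      obtain ⟨d, hd, hde⟩ := hc
      exact (MulAut.conj a).injective hde ▸ hd
    set H := G ⊓ Subgroup.normalizer ((autInducedBy (preimageAlong θ U') Q : Subgroup _) : Set (MulAut Q))
    obtain ⟨W, hW⟩ := ((hCp.comap_subtype (K := H))).exists_le_sylow
    have hW' : (W : Subgroup H).map H.subtype ≤ G := (Subgroup.map_subtype_le _).trans inf_le_left
    have hle2 : C.subgroupOf G ≤ ((W : Subgroup H).map H.subtype).subgroupOf G := fun c hc =>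
      ⟨⟨c, c.2, Subgroup.le_normalizer hc⟩, hW hc, rfl⟩
    have heq := WC.3 ((W.isPGroup'.map H.subtype).comap_subtype) (hWC.le.trans hle2)
    refine extAut_normalizing h hQ hB hle hIX hXC W (fun x hx => ?_) ⟨ha, han⟩
    have h3 : (⟨(x : MulAut Q), x.2.1⟩ : G) ∈ (WC : Subgroup G) := heq.le ⟨x, hx, rfl⟩
    rw [hWC] at h3
    exact h3
  have hXlt : X < C := lt_of_le_of_ne hXC hXeq
  have hXcard : Nat.card X < Nat.card C := by
    by_contra hh
    exact hXeq (Subgroup.eq_of_le_of_card_ge hXC (not_lt.1 hh))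
  haveI : Finite C := inferInstance
  -- the target class
  set H2 := G ⊓ Subgroup.normalizer (X2 : Set (MulAut Q)) with hH2
  obtain ⟨W2, hW2⟩ := (((hCp.to_le (inf_le_left :
    normalizerIn C X2 ≤ C))).comap_subtype (K := H2)).exists_le_sylow
  have hN2W : ∀ (c) (hc : c ∈ normalizerIn C X2), (⟨c, hCG hc.1, hc.2⟩ : H2) ∈ W2 := fun c hc => hW2 hc
  obtain ⟨W2', hW2'⟩ := (((W2.isPGroup'.map H2.subtype)).comap_subtype (K := G)).exists_le_sylow
  obtain ⟨γ, hγ⟩ := MulAction.exists_smul_eq G W2' WC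
  have hγC : ∀ x : H2, x ∈ W2 → (γ : MulAut Q) * (x : MulAut Q) * (γ : MulAut Q)⁻¹ ∈ C := by
    intro x hx
    have h1 : γ * ⟨x, x.2.1⟩ * γ⁻¹ ∈ (WC : Subgroup G) := by
      rw [← hγ, Sylow.coe_subgroup_smul]
      exact Subgroup.smul_mem_pointwise_smul (⟨x, x.2.1⟩ : G) (MulAut.conj γ) _ (hW2' ⟨x, hx, rfl⟩)
    rw [hWC] at h1
    exact h1
  set X0 := X2.map (MulAut.conj (γ : MulAut Q)).toMonoidHom with hX0def
  have hX2N : X2 ≤ normalizerIn C X2 := le_normalizerIn hX2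
  have hX0C : X0 ≤ C := by
    rintro _ ⟨c, hc, rfl⟩
    exact hγC ⟨c, hCG (hX2 c hc), Subgroup.le_normalizer hc⟩ (hN2W c (hX2N hc))
  have hIX2 : Cfsg.Inn Q ≤ X2 := fun i hi =>
    ⟨a⁻¹ * i * a, hIX (by simpa using inn_conj a⁻¹ hi), by simp [mul_assoc]⟩
  have hIX0 : Cfsg.Inn Q ≤ X0 := fun i hi =>
    ⟨(γ : MulAut Q)⁻¹ * i * γ, hIX2 (by simpa using inn_conj (γ : MulAut Q)⁻¹ hi), by simp [mul_assoc]⟩
  set H0 := G ⊓ Subgroup.normalizer (X0 : Set (MulAut Q)) with hH0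
  have hiff : ∀ x, x ∈ H2 ↔ (γ : MulAut Q) * x * (γ : MulAut Q)⁻¹ ∈ H0 := by
    intro x
    have hm0 : ∀ y, y ∈ X0 ↔ (γ : MulAut Q)⁻¹ * y * γ ∈ X2 := fun y =>
      ⟨fun ⟨c, hc, he⟩ => by rw [← he]; simpa [mul_assoc] using hc,
        fun hy => ⟨_, hy, by simp [mul_assoc]⟩⟩
    constructor
    · rintro ⟨hx1, hx2⟩
      refine ⟨mul_mem (mul_mem γ.2 hx1) (G.inv_mem γ.2), Subgroup.mem_normalizer_iff.2 fun y => ?_⟩
      rw [hm0, hm0, Subgroup.mem_normalizer_iff.1 hx2]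
      refine iff_of_eq (congrArg (· ∈ X2) ?_)
      group
    · rintro ⟨hx1, hx2⟩
      refine ⟨?_, Subgroup.mem_normalizer_iff.2 fun y => ?_⟩
      · have := mul_mem (mul_mem (G.inv_mem γ.2) hx1) γ.2
        simpa [mul_assoc] using this
      · have h1 := Subgroup.mem_normalizer_iff.1 hx2 ((γ : MulAut Q) * y * (γ : MulAut Q)⁻¹)
        rw [hm0, hm0] at h1
        convert h1 using 2 <;> group
  let W0 : Sylow p H0 := W2.mapSurjective (f := (congrStab (γ : MulAut Q) hiff).toMonoidHom)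
    (congrStab (γ : MulAut Q) hiff).surjective
  have hW0 : ∀ x ∈ W0, ((x : H0) : MulAut Q) ∈ C := by
    rintro _ ⟨y, hy, rfl⟩
    exact hγC y hy
  -- the way back
  set N2 := (normalizerIn C X2).map (MulAut.conj (γ : MulAut Q)).toMonoidHom with hN2def
  have hN2C : N2 ≤ C := by
    rintro _ ⟨c, hc, rfl⟩
    exact hγC ⟨c, hCG hc.1, hc.2⟩ (hN2W c hc)
  have hback : ExtAut (genSystem θ Z p F N) (γ : MulAut Q)⁻¹ X0 := by
    refine (ih _ ?_ N2 _ rfl (inv_mem γ.2) (hIX0.trans (Subgroup.map_mono hX2N)) hN2C ?_).mono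
      (Subgroup.map_mono hX2N)
    · have h1 : Nat.card X < Nat.card N2 := by
        rw [hN2def, Subgroup.card_map_of_injective (MulAut.conj (γ : MulAut Q)).injective, ← hcard]
        have hlt : X2 < normalizerIn C X2 := lt_normalizerIn hCp (lt_of_le_of_ne hX2 fun he => by
          rw [he] at hcard; omega)
        exact Set.Finite.card_lt_card (Set.toFinite _) hlt
      have h2 : Nat.card N2 ≤ Nat.card C := Subgroup.card_le_of_le hN2C
      omega
    · rintro _ ⟨c, hc, rfl⟩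
      simpa [mul_assoc] using hc.1
  -- the way forth
  have hXm : ∀ y, y ∈ Subgroup.normalizer (X : Set (MulAut Q)) →
      (γ : MulAut Q) * a * y * ((γ : MulAut Q) * a)⁻¹ ∈ Subgroup.normalizer (X0 : Set (MulAut Q)) := by
    intro y hy
    have hm0 : ∀ z, z ∈ X0 ↔ ((γ : MulAut Q) * a)⁻¹ * z * ((γ : MulAut Q) * a) ∈ X := fun z =>
      ⟨fun ⟨c, ⟨d, hd, hdc⟩, he⟩ => by rw [← he, ← hdc]; simpa [mul_assoc] using hd,
        fun hz => ⟨_, ⟨_, hz, rfl⟩, by simp [mul_assoc]⟩⟩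
    refine Subgroup.mem_normalizer_iff.2 fun z => ?_
    rw [hm0, hm0, Subgroup.mem_normalizer_iff.1 hy]
    refine iff_of_eq (congrArg (· ∈ X) ?_)
    group
  let ga : MulAut Q := (γ : MulAut Q) * a
  have hga : ga ∈ G := mul_mem γ.2 ha
  have hXp : IsPGroup p (((normalizerIn C X).map (MulAut.conj ga).toMonoidHom).subgroupOf H0) :=
    ((hCp.to_le inf_le_left).map _).comap_subtype
  obtain ⟨W0', hW0'⟩ := hXp.exists_le_sylow
  obtain ⟨n, hn⟩ := MulAction.exists_smul_eq H0 W0' W0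
  have hfwd : ExtAut (genSystem θ Z p F N) ((n : MulAut Q) * ga) X := by
    refine (ih _ ?_ (normalizerIn C X) _ rfl (mul_mem n.2.1 hga) (hIX.trans (le_normalizerIn hXC))
      inf_le_left ?_).mono (le_normalizerIn hXC)
    · have h1 : Nat.card X < Nat.card (normalizerIn C X) :=
        Set.Finite.card_lt_card (Set.toFinite _) (lt_normalizerIn hCp hXlt)
      have h2 : Nat.card (normalizerIn C X) ≤ Nat.card C := Subgroup.card_le_of_le inf_le_left
      omega
    · intro c hc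
      have hm : ga * c * ga⁻¹ ∈ H0 := ⟨mul_mem (mul_mem hga (hCG hc.1)) (G.inv_mem hga), hXm c hc.2⟩
      have h1 : n * ⟨_, hm⟩ * n⁻¹ ∈ (W0 : Subgroup H0) := by
        rw [← hn, Sylow.coe_subgroup_smul]
        exact Subgroup.smul_mem_pointwise_smul (⟨_, hm⟩ : H0) (MulAut.conj n) _
          (hW0' ⟨c, hc, rfl⟩)
      simpa [mul_assoc] using hW0 _ h1
  have hmid : ExtAut (genSystem θ Z p F N) (n : MulAut Q)⁻¹ X0 :=
    extAut_normalizing h hQ hB hle hIX0 hX0C W0 hW0 (inv_mem n.2)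
  have hQD := le_indPre hQ.2.1 hIX
  have hmove : ∀ c ∈ X, (n : MulAut Q) * ga * c * ((n : MulAut Q) * ga)⁻¹ ∈ X0 := by
    intro c hc
    have h1 : ga * c * ga⁻¹ ∈ X0 :=
      ⟨a * c * a⁻¹, ⟨c, hc, rfl⟩, by simp [ga, mul_assoc]⟩
    simpa [mul_assoc] using (Subgroup.mem_normalizer_iff.1 n.2.2 _).1 h1
  have h12 := ExtAut.comp hQD hfwd hmid hmove
  rw [inv_mul_cancel_left] at h12
  have h123 := ExtAut.comp hQD h12 hback fun c hc => ⟨a * c * a⁻¹, ⟨c, hc, rfl⟩, by simp [ga, mul_assoc]⟩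
  simpa [ga] using h123

/-- Receptivity from moves and extensions. -/
theorem gen_receptive [Finite S] [Fact p.Prime] (hQ : InFamily θ Z N Q)
    {B : Subgroup (MulAut Q)} (hB : KerData θ Z p F N Q B)
    (hle : (genSystem θ Z p F N).autGroup Q ≤ B)
    (hclass : ∀ A, (genSystem θ Z p F N).IsConj Q A → ToP (genSystem θ Z p F N) Q A) :
    (genSystem θ Z p F N).IsReceptive Q := by
  have hQU := hQ.2.1
  haveI : Finite (preimageAlong θ U') := finite_of_le preimageAlong_le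
  refine ⟨hQU, fun A φ hφ hr => ?_⟩
  let e := homIso hφ hr
  have he : IsoIn (genSystem θ Z p F N) e := isoIn_homIso hφ hr
  obtain ⟨χ, hχ⟩ := hclass A (isConj_symm (isConj_iff.2 ⟨e, he⟩))
  let a : MulAut Q := χ.symm.trans e
  have ha : a ∈ (genSystem θ Z p F N).autGroup Q := (mem_autGroup hQU).2 (hχ.isoIn.symm.trans he)
  set C := autInducedBy (preimageAlong θ U') Q
  set X := C ⊓ C.comap (MulAut.conj a).toMonoidHom with hX
  obtain ⟨φ', hφ', hφ'e⟩ := extAut_of_conj h hQ hB hle _ X a rfl ha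
    (le_inf (inn_le_induced h hQ) fun i hi => inn_le_induced h hQ (inn_conj a hi)) inf_le_left
    fun c hc => hc.2
  obtain ⟨hAN, ψ, hψ, hv, hψe⟩ := hχ
  have hlee : extender (preimageAlong θ U') A φ ≤ normalizerIn (preimageAlong θ U') A := extender_le φ
  have hmem : ∀ t (ht : t ∈ extender (preimageAlong θ U') A φ),
      ψ ⟨t, hlee ht⟩ ∈ indPre (preimageAlong θ U') Q X := by
    intro t ht
    obtain ⟨htS, htN, g, hgS, hg⟩ := mem_extender.1 ht
    have hn := (hv ⟨t, hlee ht⟩).2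
    refine mem_indPre.2 ⟨hom_mem hψ _, hn, conjAut_mem_autInducedBy hn (hom_mem hψ _),
      mem_autInducedBy.2 ⟨g, hgS, fun y => ?_⟩⟩
    show ((a (conjAut Q hn (a⁻¹ y)) : Q) : Ω) = _
    obtain ⟨x, rfl⟩ := (e : A ≃* Q).surjective y
    rw [show a⁻¹ (e x) = χ x from a.injective (by
      rw [MulAut.apply_inv_self]; simp [a])]
    have hta : t * (x : Ω) * t⁻¹ ∈ A := (Subgroup.mem_normalizer_iff.1 htN x).1 x.2
    have e2 : conjAut Q hn (χ x) = χ ⟨_, hta⟩ := Subtype.ext (by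
      have := hψe (t * x * t⁻¹) hta ((normalizerIn _ A).mul_mem
        ((normalizerIn _ A).mul_mem (hlee ht) (hAN x.2)) ((normalizerIn _ A).inv_mem (hlee ht)))
      rw [coe_conjAut]
      calc ψ ⟨t, hlee ht⟩ * (χ x : Ω) * (ψ ⟨t, hlee ht⟩)⁻¹
          = ψ (⟨t, hlee ht⟩ * ⟨(x : Ω), hAN x.2⟩ * ⟨t, hlee ht⟩⁻¹) := by
            rw [map_mul, map_mul, map_inv, hψe x x.2 (hAN x.2)]
        _ = _ := this)
    rw [e2]
    simp only [a, MulEquiv.trans_apply, MulEquiv.symm_apply_apply]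
    exact hg x hta
  refine ⟨_, (genSystem θ Z p F N).comp_mem (restrict_mem hψ hlee) hφ' fun t => hmem t t.2,
    fun x hx hT => ?_⟩
  show φ' ⟨ψ ⟨x, hlee hT⟩, _⟩ = _
  have h1 := hψe x hx (hlee hT)
  rw [show (⟨ψ ⟨x, hlee hT⟩, hmem x hT⟩ : indPre (preimageAlong θ U') Q X) =
    ⟨(χ ⟨x, hx⟩ : Ω), h1 ▸ hmem x hT⟩ from Subtype.ext h1, hφ'e]
  simp [a, e]


end

end Cfsg.Lib.FusionSys.CentralLift
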