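import Cfsg.Agent.Lib.FusionSys.CentralLift.Setup

/-!
The subsystem generated by the lifting automorphisms of order prime to `p` on the subgroups with
centric image; it maps onto the normal subsystem.
-/

set_option autoImplicit false
set_option linter.style.haveILetI false

namespace Cfsg.Lib.FusionSys.CentralLift

open Cfsg Cfsg.FusionSystem Cfsg.Lib.FusionSys

universe w

/-- An exponent killing the `p`-part of `a` and fixing all elements of exponent `m`. -/
theorem exists_exponent {p : ℕ} [Fact p.Prime] {G : Type*} [Group G] [Finite G] (a : G) {m : ℕ}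
    (hm : m.Coprime p) : ∃ j, (orderOf (a ^ j)).Coprime p ∧
      ∀ {H : Type w} [Group H] (b : H), b ^ m = 1 → b ^ j = b := by
  obtain ⟨u, v, hv, huv⟩ := Nat.exists_eq_pow_mul_and_not_dvd (orderOf_pos a).ne' p
    (Fact.out : p.Prime).ne_one
  obtain ⟨j, hj0, hj1⟩ := Nat.chineseRemainder ((Nat.Coprime.pow_right u hm).symm) 0 1
  refine ⟨j, Nat.Coprime.coprime_dvd_left (orderOf_dvd_of_pow_eq_one (n := v) ?_)
    ((Fact.out : p.Prime).coprime_iff_not_dvd.2 hv).symm, fun {H} _ b hb => ?_⟩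
  · obtain ⟨c, hc⟩ := Nat.modEq_zero_iff_dvd.1 hj0
    rw [← pow_mul, hc, show p ^ u * c * v = orderOf a * c by rw [huv]; ring, pow_mul,
      pow_orderOf_eq_one, one_pow]
  · conv_rhs => rw [← pow_one b]
    exact pow_eq_pow_iff_modEq.2 (hj1.of_dvd (orderOf_dvd_of_pow_eq_one hb))

/-- A group is generated by a Sylow subgroup and the elements of order prime to `p`. -/
theorem sylow_sup_pPrime_eq_top {p : ℕ} [Fact p.Prime] {G : Type*} [Group G] [Finite G]
    (R : Sylow p G) :
    (R : Subgroup G) ⊔ Subgroup.closure {x : G | (orderOf x).Coprime p} = ⊤ := by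
  let M : Subgroup G := Subgroup.closure {x : G | (orderOf x).Coprime p}
  haveI hM : M.Normal := by
    refine ⟨fun x hx g => ?_⟩
    have hle : M.map (MulAut.conj g).toMonoidHom ≤ M := by
      rw [Subgroup.map_le_iff_le_comap]
      refine (Subgroup.closure_le _).2 fun y hy => Subgroup.subset_closure ?_
      show (orderOf (MulAut.conj g y)).Coprime p
      rwa [MulEquiv.orderOf_eq]
    exact hle ⟨x, hx, rfl⟩
  have hq : IsPGroup p (G ⧸ M) := by
    intro q
    obtain ⟨x, rfl⟩ := QuotientGroup.mk'_surjective M q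
    obtain ⟨u, v, hv, huv⟩ := Nat.exists_eq_pow_mul_and_not_dvd (orderOf_pos x).ne' p
      (Fact.out : p.Prime).ne_one
    refine ⟨u, ?_⟩
    rw [← map_pow]
    refine (QuotientGroup.eq_one_iff _).2 (Subgroup.subset_closure ?_)
    have h1 : (x ^ p ^ u) ^ v = 1 := by rw [← pow_mul, ← huv, pow_orderOf_eq_one]
    exact Nat.Coprime.coprime_dvd_left (orderOf_dvd_of_pow_eq_one h1)
      ((Fact.out : p.Prime).coprime_iff_not_dvd.2 hv).symm
  have htop : (R : Subgroup G).map (QuotientGroup.mk' M) = ⊤ :=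
    ((R.mapSurjective (QuotientGroup.mk'_surjective M)).3 (hq.to_subgroup _) le_top).symm
  have h := congrArg (Subgroup.comap (QuotientGroup.mk' M)) htop
  rwa [Subgroup.comap_map_eq, QuotientGroup.ker_mk', Subgroup.comap_top] at h

variable {Ω : Type*} [Group Ω] {S : Subgroup Ω} {Ω' : Type*} [Group Ω'] {S' : Subgroup Ω'}
  {U' : Subgroup Ω'} {p : ℕ} {F : FusionSystem S} {Z : Subgroup Ω} {θ : S →* Ω'}
  {E : FusionSystem S'} {N : FusionSystem U'} {P Q R : Subgroup Ω}

/-- The subgroups with centric image. -/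
def InFamily (θ : S →* Ω') (Z : Subgroup Ω) (N : FusionSystem U') (P : Subgroup Ω) : Prop :=
  Z ≤ P ∧ P ≤ preimageAlong θ U' ∧ N.IsCentric (imageAlong θ P)

/-- `K` contains the generators. -/
def IsGen (θ : S →* Ω') (Z : Subgroup Ω) (p : ℕ) (F : FusionSystem S) (N : FusionSystem U')
    (K : FusionSystem (preimageAlong θ U')) : Prop :=
  ∀ P, InFamily θ Z N P → ∀ a ∈ (preSystem θ F N).autGroup P, (orderOf a).Coprime p →
    a ∈ K.autGroup P

/-- The generated subsystem. -/
def genSystem (θ : S →* Ω') (Z : Subgroup Ω) (p : ℕ) (F : FusionSystem S) (N : FusionSystem U') :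
    FusionSystem (preimageAlong θ U') where
  Hom P := {φ | φ ∈ (preSystem θ F N).Hom P ∧ ∀ K, IsGen θ Z p F N K → φ ∈ K.Hom P}
  le_of_mem h := (preSystem θ F N).le_of_mem h.1
  injective_of_mem h := (preSystem θ F N).injective_of_mem h.1
  conj_mem hP hg := ⟨(preSystem θ F N).conj_mem hP hg, fun K _ => K.conj_mem hP hg⟩
  comp_mem hφ hψ h := ⟨(preSystem θ F N).comp_mem hφ.1 hψ.1 h,
    fun K hK => K.comp_mem (hφ.2 K hK) (hψ.2 K hK) h⟩
  inv_mem := by
    rintro P φ ⟨hφ, hφ'⟩
    obtain ⟨ψ, hψ, hψe⟩ := (preSystem θ F N).inv_mem hφ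
    refine ⟨ψ, ⟨hψ, fun K hK => ?_⟩, hψe⟩
    obtain ⟨χ, hχ, hχe⟩ := K.inv_mem (hφ' K hK)
    refine hom_congr hχ ?_
    rintro ⟨_, x, rfl⟩
    exact (hψe x).trans (hχe x).symm

theorem genSystem_le : genSystem θ Z p F N ≤ preSystem θ F N := fun _ _ h => h.1

theorem gen_isSubsystem : (genSystem θ Z p F N).IsSubsystemOf F := fun _ _ h => h.1.1

theorem gen_autGroup_le (hP : P ≤ preimageAlong θ U') :
    (genSystem θ Z p F N).autGroup P ≤ (preSystem θ F N).autGroup P := fun _ ha =>
  (mem_autGroup hP).2 ((mem_autGroup hP).1 ha).1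

theorem coprime_mem_gen (hP : InFamily θ Z N P) {a : MulAut P}
    (ha : a ∈ (preSystem θ F N).autGroup P) (hc : (orderOf a).Coprime p) :
    a ∈ (genSystem θ Z p F N).autGroup P :=
  (mem_autGroup hP.2.1).2 ⟨(mem_autGroup hP.2.1).1 ha,
    fun _ hK => (mem_autGroup hP.2.1).1 (hK P hP a ha hc)⟩

/-- The system is generated by its maps on the family. -/
theorem gen_le_of (K : FusionSystem (preimageAlong θ U'))
    (hK : ∀ P, InFamily θ Z N P → (genSystem θ Z p F N).Hom P ⊆ K.Hom P) :
    genSystem θ Z p F N ≤ K := fun _ _ hφ => hφ.2 K fun P hP a ha hc =>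
  (mem_autGroup hP.2.1).2 (hK P hP ((mem_autGroup hP.2.1).1 (coprime_mem_gen hP ha hc)))

section

variable (h : CSetup p F Z θ E N)
include h

theorem ufinite [Finite S] : Finite U' :=
  haveI := efinite h
  finite_of_le (u_le h)

theorem uP [Fact p.Prime] : IsPGroup p U' := (eS' h).to_le (u_le h)

theorem preP : IsPGroup p (preimageAlong θ U') := h.hS.to_le preimageAlong_le

theorem family_mono (hP : InFamily θ Z N P) (hPR : P ≤ R) (hR : R ≤ preimageAlong θ U') :
    InFamily θ Z N R :=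
  ⟨hP.1.trans hPR, hR, isCentric_mono hP.2.2 (Subgroup.map_mono fun _ hx => hPR hx) (image_le h hR)⟩

theorem family_top [Finite S] : InFamily θ Z N (preimageAlong θ U') := by
  refine ⟨z_le_pre h, le_rfl, ?_⟩
  rw [imageAlong_preimageAlong (hrange h) (u_le h)]
  haveI := ufinite h
  exact ⟨le_rfl, fun Q hQ => by rw [eq_top_of_isConj hQ]; exact centralizerIn_le _⟩

theorem family_map [Finite S] [Fact p.Prime] (hP : InFamily θ Z N P) {φ : P →* Ω}
    (hφ : φ ∈ F.Hom P) : InFamily θ Z N φ.range := by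
  obtain ⟨hZ, hPU, hc⟩ := hP
  refine ⟨fun z hz => ⟨⟨z, hZ hz⟩, hom_fix h hφ ⟨z, hZ hz⟩ hz⟩, ?_, ?_⟩
  · rintro _ ⟨x, rfl⟩
    exact stronglyClosed_apply_mem (pre_closed h) hφ (hPU x.2)
  · obtain ⟨φ', hφ', hi⟩ := mem_morphism h hφ
    rw [← imageAlong_range_eq hi]
    haveI := efinite h
    exact centric_image h.normal.1.2.2 hc hφ'

theorem family_conj [Finite S] [Fact p.Prime] (hP : InFamily θ Z N P)
    (hc : (genSystem θ Z p F N).IsConj P Q) : InFamily θ Z N Q := by
  obtain ⟨φ, hφ, rfl⟩ := hc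
  exact family_map h hP (gen_isSubsystem P hφ)

theorem range_eq_preimage [Finite S] [Fact p.Prime] (hZ : Z ≤ P) {φ : P →* Ω}
    (hφ : φ ∈ F.Hom P) {ψ : imageAlong θ P →* Ω'} (hi : InducedAlong θ φ ψ) :
    φ.range = preimageAlong θ ψ.range := by
  rw [imageAlong_range_eq hi, pre_image h (range_le hφ) fun z hz => ⟨⟨z, hZ hz⟩, hom_fix h hφ _ hz⟩]

theorem preimage_family [Finite S] [Fact p.Prime] {P' : Subgroup Ω'} (hP' : N.IsCentric P') :
    InFamily θ Z N (preimageAlong θ P') := by
  refine ⟨kernel_le_preimageAlong (zle h) (hker h),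
    fun x hx => ?_, ?_⟩
  · obtain ⟨hxS, hx'⟩ := mem_preimageAlong.1 hx
    exact mem_preimageAlong.2 ⟨hxS, hP'.1 hx'⟩
  · rwa [imageAlong_preimageAlong (hrange h) (hP'.1.trans (u_le h))]

/-- An automorphism of `N` lifts to an automorphism of the preimage. -/
theorem exists_lift_aut [Finite S] [Fact p.Prime] (hZ : Z ≤ P) (hP : P ≤ preimageAlong θ U')
    {b : MulAut (imageAlong θ P)} (hb : b ∈ N.autGroup (imageAlong θ P)) :
    ∃ a ∈ (preSystem θ F N).autGroup P, Bar θ (hP.trans preimageAlong_le) a b := by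
  have hPS := hP.trans (preimageAlong_le (θ := θ) (P' := U'))
  have hP' := image_le h hP
  obtain ⟨-, φ, hφ, hi⟩ := (h.fac.2.2.2 _ _).1 (h.normal.1.2.2.1 _ ((mem_autGroup hP').1 hb))
  have heq := pre_image h hPS hZ
  have key : ∀ (R : Subgroup Ω) (_ : R = P) (φ : R →* Ω), φ ∈ F.Hom R →
      InducedAlong θ φ ((imageAlong θ P).subtype.comp b.toMonoidHom) →
      ∃ a ∈ F.autGroup P, Bar θ hPS a b := by
    rintro R rfl φ hφ hi
    have hv : ∀ x, φ x ∈ R := fun x => by
      refine heq.le (mem_preimageAlong.2 ⟨hom_mem hφ x, ?_⟩)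
      rw [← inducedAlong_apply hi (x := x) (hxS := hPS x.2) (hx' := hom_mem hφ x)
        (y := toBar θ hPS x) rfl]
      exact (b _).2
    obtain ⟨a, ha, hae⟩ := exists_aut_of_hom hφ hv
    refine ⟨a, ha, fun x => Subtype.ext ?_⟩
    refine Eq.trans (inducedAlong_apply hi (x := x) (y := toBar θ hPS x) rfl (hx' := hom_mem hφ x)) ?_
    exact congrArg θ (Subtype.ext (hae x).symm)
  obtain ⟨a, ha, hab⟩ := key _ heq φ hφ hi
  exact ⟨a, (mem_pre_autGroup_iff h hP).2 ⟨ha, b, hb, hab⟩, hab⟩

/-- An automorphism of `N` of order prime to `p` lifts to one of the generated system. -/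
theorem exists_lift_coprime [Finite S] [Fact p.Prime] (hP : InFamily θ Z N P)
    {b : MulAut (imageAlong θ P)} (hb : b ∈ N.autGroup (imageAlong θ P))
    (hc : (orderOf b).Coprime p) :
    ∃ a ∈ (preSystem θ F N).autGroup P, (orderOf a).Coprime p ∧
      a ∈ (genSystem θ Z p F N).autGroup P ∧ Bar θ (hP.2.1.trans preimageAlong_le) a b := by
  obtain ⟨a, ha, hab⟩ := exists_lift_aut h hP.1 hP.2.1 hb
  haveI := finite_mulAut_of_le (hP.2.1.trans (preimageAlong_le (θ := θ) (P' := U')))
  obtain ⟨j, hj, hjb⟩ := exists_exponent (p := p) a hc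
  have hbj := hab.pow j
  rw [hjb b (pow_orderOf_eq_one b)] at hbj
  exact ⟨a ^ j, pow_mem ha j, hj, coprime_mem_gen hP (pow_mem ha j) hj, hbj⟩

/-- The maps of the generated system cover those of `N`. -/
theorem exists_lift_hom [Finite S] [Fact p.Prime] {P' : Subgroup Ω'} {ψ : P' →* Ω'}
    (hψ : ψ ∈ N.Hom P') :
    ∃ φ ∈ (genSystem θ Z p F N).Hom (preimageAlong θ P'), InducedAlong θ φ ψ := by
  haveI := efinite h
  haveI := ufinite h
  let K : FusionSystem U' :=
    { Hom := fun P' => {ψ | ψ ∈ N.Hom P' ∧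
        ∃ φ ∈ (genSystem θ Z p F N).Hom (preimageAlong θ P'), InducedAlong θ φ ψ}
      le_of_mem := fun h => N.le_of_mem h.1
      injective_of_mem := fun h => N.injective_of_mem h.1
      conj_mem := fun {P'} {g'} hP' hg' => by
        refine ⟨N.conj_mem hP' hg', ?_⟩
        obtain ⟨⟨g, hg⟩, rfl⟩ := (u_le_range h) hg'
        refine ⟨_, (genSystem θ Z p F N).conj_mem (fun x hx => ?_)
          (mem_preimageAlong.2 ⟨hg, hg'⟩), preimageAlong_le, ?_,
          fun x => (mem_preimageAlong.1 x.2).2, fun x => ?_⟩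
        · obtain ⟨hxS, hx'⟩ := mem_preimageAlong.1 hx
          exact mem_preimageAlong.2 ⟨hxS, hP' hx'⟩
        · exact fun x => S.mul_mem (S.mul_mem hg (preimageAlong_le x.2)) (S.inv_mem hg)
        · show θ ⟨g, hg⟩ * θ ⟨x, preimageAlong_le x.2⟩ * (θ ⟨g, hg⟩)⁻¹ = _
          rw [← map_inv, ← map_mul, ← map_mul]
          rfl
      comp_mem := by
        rintro P' Q' ψ χ ⟨hψ, φ, hφ, hi⟩ ⟨hχ, φ₂, hφ₂, hj⟩ hv
        have hv' : ∀ x, φ x ∈ preimageAlong θ Q' := fun x => by
          have hφS := hom_mem (gen_isSubsystem _ hφ) x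
          refine mem_preimageAlong.2 ⟨hφS, ?_⟩
          rw [← inducedAlong_apply hi (x := x) (hxS := preimageAlong_le x.2) (hx' := hφS)
            (y := ⟨_, (mem_preimageAlong.1 x.2).2⟩) rfl]
          exact hv _
        refine ⟨N.comp_mem hψ hχ hv, _, (genSystem θ Z p F N).comp_mem hφ hφ₂ hv',
          preimageAlong_le, fun x => hom_mem (gen_isSubsystem _ hφ₂) _,
          fun x => (mem_preimageAlong.1 x.2).2, fun x => ?_⟩
        exact inducedAlong_apply hj (inducedAlong_apply hi rfl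
          (hx' := hom_mem (gen_isSubsystem _ hφ) x))
      inv_mem := by
        rintro P' ψ ⟨hψ, φ, hφ, hi⟩
        obtain ⟨χ, hχ, hχe⟩ := N.inv_mem hψ
        obtain ⟨φi, hφi, hφie⟩ := (genSystem θ Z p F N).inv_mem hφ
        have hP'S : P' ≤ S' := (hom_le hψ).trans (u_le h)
        have hr : φ.range = preimageAlong θ ψ.range := by
          apply le_antisymm
          · rintro _ ⟨x, rfl⟩
            have hφS := hom_mem (gen_isSubsystem _ hφ) x
            exact mem_preimageAlong.2 ⟨hφS, _, inducedAlong_apply hi (x := x)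
              (hxS := preimageAlong_le x.2) (hx' := hφS)
              (y := ⟨_, (mem_preimageAlong.1 x.2).2⟩) rfl⟩
          · intro z hz
            obtain ⟨hzS, y, hy⟩ := mem_preimageAlong.1 hz
            obtain ⟨x, hx⟩ := exists_lift_val (hrange h) hP'S y
            have hφS := hom_mem (gen_isSubsystem _ hφ) x
            rw [inducedAlong_apply hi (x := x) (hx' := hφS) hx.symm] at hy
            have hd : (φ x)⁻¹ * z ∈ Z := by
              have := (hker h (⟨φ x, hφS⟩⁻¹ * ⟨z, hzS⟩)).1 (by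
                rw [map_mul, map_inv, hy, inv_mul_cancel])
              exact this
            have hdP : (φ x)⁻¹ * z ∈ preimageAlong θ P' :=
              kernel_le_preimageAlong (zle h) (hker h) hd
            refine ⟨x * ⟨_, hdP⟩, ?_⟩
            rw [map_mul, hom_fix h (gen_isSubsystem _ hφ) ⟨_, hdP⟩ hd]
            exact mul_inv_cancel_left _ _
        refine ⟨χ, ⟨hχ, _, restrict_mem hφi hr.ge, preimageAlong_le,
          fun x => hom_mem (gen_isSubsystem _ hφi) _, fun x => (mem_preimageAlong.1 x.2).2,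
          fun z => ?_⟩, hχe⟩
        obtain ⟨x, hx⟩ := hr.ge z.2
        have h1 : ψ ⟨_, (mem_preimageAlong.1 x.2).2⟩ = θ ⟨(z : Ω), preimageAlong_le z.2⟩ :=
          (inducedAlong_apply hi rfl (hx' := hom_mem (gen_isSubsystem _ hφ) x)).trans
            (congrArg θ (Subtype.ext hx))
        refine (congrArg χ (Subtype.ext h1.symm)).trans ((hχe ⟨_, _⟩).trans ?_)
        refine congrArg θ (Subtype.ext ?_)
        exact (hφie x).symm.trans (congrArg φi (Subtype.ext hx)) }
  refine ((le_of_autGroup_le' (uP h) h.normal.1.1 K fun P' hP' hbig => ?_) P' hψ).2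
  have hP'U : P' ≤ U' := by rcases hP' with rfl | hP'; exacts [le_rfl, hP'.1.1]
  have hfn : N.IsFullyNormalized P' := by
    rcases hP' with rfl | hP'
    · exact ⟨le_rfl, fun R hR => by rw [eq_top_of_isConj hR]⟩
    · exact hP'.2.1
  have hc : N.IsCentric P' := by
    rcases hP' with rfl | hP'
    · exact ⟨le_rfl, fun R hR => by rw [eq_top_of_isConj hR]; exact centralizerIn_le _⟩
    · exact hP'.1
  haveI := finite_mulAut_of_le hP'U
  obtain ⟨-, -, W, hW⟩ := isFullyAutomized_and_fc_of_fn (uP h) h.normal.1.1 hfn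
  intro b hb
  have hgen : (⊤ : Subgroup (N.autGroup P')) ≤ (K.autGroup P').subgroupOf (N.autGroup P') := by
    rw [← sylow_sup_pPrime_eq_top W]
    refine sup_le (fun x hx => ?_) ((Subgroup.closure_le _).2 fun x hx => ?_)
    · rw [hW] at hx
      exact autInducedBy_le_autGroup hP'U hx
    · set P := preimageAlong θ P'
      have hfam := preimage_family h hc
      have him : imageAlong θ P = P' :=
        imageAlong_preimageAlong (hrange h) (hP'U.trans (u_le h))
      have key : ∀ (R : Subgroup Ω') (_ : imageAlong θ P = R) (c : MulAut R), c ∈ N.autGroup R →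
          (orderOf c).Coprime p → c ∈ K.autGroup R := by
        rintro R rfl c hcN hcp
        obtain ⟨a, -, -, ha, hac⟩ := exists_lift_coprime h hfam hcN hcp
        have hPU' : imageAlong θ P ≤ U' := him.le.trans hP'U
        have heq := pre_image h (preimageAlong_le (θ := θ) (P' := P')) hfam.1
        refine (mem_autGroup hPU').2 ⟨(mem_autGroup hPU').1 hcN, _,
          restrict_mem ((mem_autGroup hfam.2.1).1 ha) heq.le, preimageAlong_le,
          fun y => preimageAlong_le (a _).2, fun y => (mem_preimageAlong.1 y.2).2, fun y => ?_⟩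
        exact congrArg Subtype.val (hac (Subgroup.inclusion heq.le y))
      exact key P' him x x.2 (by rw [Subgroup.orderOf_coe]; exact hx)
  exact hgen (Subgroup.mem_top (⟨b, hb⟩ : N.autGroup P'))

end

end Cfsg.Lib.FusionSys.CentralLift
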