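import Cfsg.Agent.Lib.FusionSys.CentralLift.Extend

/-!
The automizers of the generated system are separated from the kernel.
-/

set_option autoImplicit false
set_option linter.style.haveILetI false

namespace Cfsg.Lib.FusionSys.CentralLift

open Cfsg Cfsg.FusionSystem Cfsg.Lib.FusionSys
open scoped Pointwise

universe u v

variable {Ω : Type u} [Group Ω] {S : Subgroup Ω} {Ω' : Type v} [Group Ω'] {S' : Subgroup Ω'}
  {U' : Subgroup Ω'} {p : ℕ} {F : FusionSystem S} {Z : Subgroup Ω} {θ : S →* Ω'}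
  {E : FusionSystem S'} {N : FusionSystem U'} {P Q R : Subgroup Ω}

/-- Adjust an automorphism, remembering the correcting element. -/
theorem exists_adjust_stab {V : Subgroup Ω} {K : FusionSystem V} [Finite V] [Fact p.Prime]
    (hV : IsPGroup p V) {R0 A' A'' : Subgroup Ω}
    (hrec : K.IsReceptive R0) (hA' : A' ≤ R0) (hA'' : A'' ≤ R0)
    (hR0n : R0 ≤ Subgroup.normalizer (A' : Set Ω)) (hst : SylowStab K p R0 A'') {Δ : MulAut R0}
    (hΔ : Δ ∈ K.autGroup R0) (hmap : ∀ x : R0, (x : Ω) ∈ A' ↔ ((Δ x : R0) : Ω) ∈ A'') :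
    ∃ (k : stabAut K R0 A'') (e' : A' ≃* A''),
      (∀ a : A', (e' a : Ω) = (((k : MulAut R0) (Δ ⟨a, hA' a.2⟩) : R0) : Ω)) ∧
      ExtIso K (normalizerIn V R0 ⊓ normalizerIn V A') (normalizerIn V R0 ⊓ normalizerIn V A'') e' := by
  have hRS : R0 ≤ V := hrec.1
  haveI := finite_mulAut_of_le hRS
  have hmove : moveSub Δ A' = A'' := by
    ext y
    rw [mem_moveSub]
    refine ⟨fun ⟨x, hx, he⟩ => he ▸ (hmap x).1 hx, fun hy => ⟨Δ⁻¹ ⟨y, hA'' hy⟩, ?_, ?_⟩⟩
    · rw [hmap, MulAut.apply_inv_self]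
      exact hy
    · rw [MulAut.apply_inv_self]
  obtain ⟨W, hW⟩ := hst
  let X : Subgroup (stabAut K R0 A'') := (((autInducedBy V R0 ⊓ stabAut K R0 A').map
    (MulAut.conj Δ).toMonoidHom)).subgroupOf (stabAut K R0 A'')
  have hXp : IsPGroup p X :=
    (((isPGroup_autInducedBy hV).to_le inf_le_left).map _).comap_subtype
  obtain ⟨W', hW'⟩ := hXp.exists_le_sylow
  obtain ⟨k, hk⟩ := MulAction.exists_smul_eq (stabAut K R0 A'') W' W
  set δ : MulAut R0 := (k : MulAut R0) * Δ with hδdef
  have hδ : δ ∈ K.autGroup R0 := Subgroup.mul_mem _ k.2.1 hΔ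
  have hδmap : ∀ x : R0, (x : Ω) ∈ A' ↔ ((δ x : R0) : Ω) ∈ A'' := fun x => by
    rw [hδdef, MulAut.mul_apply]
    exact (hmap x).trans (k.2.2 _)
  refine ⟨k, subIso δ hA' hA'' hδmap, fun a => rfl, ?_⟩
  have hext : ExtIso K (normalizerIn V R0 ⊓ normalizerIn V A') (normalizerIn V R0)
      (δ : R0 ≃* R0) := by
    refine exists_extIso_of_receptive hrec ((mem_autGroup hRS).1 hδ)
      (le_inf (le_normalizerIn hRS) (le_inf hRS hR0n)) inf_le_left fun g hg => ?_
    have e1 : MulAut.congr (δ : R0 ≃* R0) (conjAut R0 hg.1.2) = δ * conjAut R0 hg.1.2 * δ⁻¹ :=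
      MulEquiv.ext fun x => rfl
    rw [e1, hδdef]
    have hc : conjAut R0 hg.1.2 ∈ stabAut K R0 A' := conjAut_mem_stabAut hRS hg.1.1 hg.1.2 hg.2.2
    have hd : Δ * conjAut R0 hg.1.2 * Δ⁻¹ ∈ stabAut K R0 A'' := by
      have := conj_mem_stabAut hΔ hc
      rwa [hmove] at this
    have hdX : (⟨_, hd⟩ : stabAut K R0 A'') ∈ X :=
      ⟨conjAut R0 hg.1.2, ⟨conjAut_mem_autInducedBy hg.1.2 hg.1.1, hc⟩, rfl⟩
    have h1 : k * ⟨_, hd⟩ * k⁻¹ ∈ (W : Subgroup (stabAut K R0 A'')) := by
      rw [← hk, Sylow.coe_subgroup_smul]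
      exact Subgroup.smul_mem_pointwise_smul (⟨_, hd⟩ : stabAut K R0 A'') (MulAut.conj k) _ (hW' hdX)
    rw [hW, Subgroup.mem_subgroupOf] at h1
    simpa [mul_assoc] using h1
  have h2 := hext.restrict (e := subIso δ hA' hA'' hδmap) hA' fun a => rfl
  exact (h2.normalizes fun g hg => hg.2.2).mono (le_inf (hA'.trans (le_normalizerIn hRS))
    (le_normalizerIn (hA'.trans hRS))) le_rfl le_rfl

/-- An extended isomorphism carries induced automorphisms to induced ones. -/
theorem congr_induced {V : Subgroup Ω} {K : FusionSystem V} {A B T T' : Subgroup Ω} {e : A ≃* B}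
    (he : ExtIso K T T' e) {t : Ω} (ht : t ∈ T) (hn : t ∈ Subgroup.normalizer (A : Set Ω)) :
    MulAut.congr e (conjAut A hn) ∈ autInducedBy V B := by
  obtain ⟨hA, ψ, hψ, -, hψe⟩ := he
  refine mem_autInducedBy.2 ⟨ψ ⟨t, ht⟩, hom_mem hψ _, fun b => ?_⟩
  obtain ⟨a, rfl⟩ := e.surjective b
  show ((e (conjAut A hn (e.symm (e a))) : B) : Ω) = _
  rw [MulEquiv.symm_apply_apply]
  refine (hψe _ (conjAut A hn a).2 (hA (conjAut A hn a).2)).symm.trans ?_
  rw [← hψe a a.2 (hA a.2), ← map_inv, ← map_mul, ← map_mul]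
  rfl

/-- The composites of conjugations, extended isomorphisms and lifts of order prime to `p`. -/
inductive Dec (θ : S →* Ω') (Z : Subgroup Ω) (p : ℕ) (F : FusionSystem S) (N : FusionSystem U') :
    ∀ {A B : Subgroup Ω}, (A ≃* B) → Prop
  | conj {A B : Subgroup Ω} (e : A ≃* B) (g : Ω) : A ≤ preimageAlong θ U' → g ∈ preimageAlong θ U' →
      (∀ x : A, (e x : Ω) = g * x * g⁻¹) → Dec θ Z p F N e
  | base {A B : Subgroup Ω} (e : A ≃* B) (R : Subgroup Ω) : A < R →
      ExtIso (genSystem θ Z p F N) R (preimageAlong θ U') e → Dec θ Z p F N e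
  | aut {A : Subgroup Ω} (a : MulAut A) : InFamily θ Z N A → a ∈ (preSystem θ F N).autGroup A →
      (orderOf a).Coprime p → Dec θ Z p F N (a : A ≃* A)
  | trans {A B C : Subgroup Ω} (e : A ≃* B) (f : B ≃* C) :
      Dec θ Z p F N e → Dec θ Z p F N f → Dec θ Z p F N (e.trans f)

section

variable (h : CSetup p F Z θ E N)
include h

theorem dec_isoIn {A B : Subgroup Ω} {e : A ≃* B} (hd : Dec θ Z p F N e) :
    IsoIn (genSystem θ Z p F N) e := by
  induction hd with
  | conj e g hA hg he => exact hom_congr ((genSystem θ Z p F N).conj_mem hA hg) he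
  | base e R _ he => exact he.isoIn
  | aut a hA ha hc => exact (mem_autGroup hA.2.1).1 (coprime_mem_gen hA ha hc)
  | trans e f _ _ ih ih' => exact ih.trans ih'

theorem dec_symm [Finite S] {A B : Subgroup Ω} {e : A ≃* B} (hd : Dec θ Z p F N e) :
    Dec θ Z p F N e.symm := by
  haveI : Finite (preimageAlong θ U') := finite_of_le preimageAlong_le
  induction hd with
  | @conj A B e g hA hg he =>
    have hB : B ≤ preimageAlong θ U' :=
      IsoIn.le_right (dec_isoIn h (Dec.conj (p := p) (F := F) (N := N) (Z := Z) e g hA hg he))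
    refine Dec.conj _ g⁻¹ hB (inv_mem hg) fun y => ?_
    have h1 := he (e.symm y)
    rw [MulEquiv.apply_symm_apply] at h1
    rw [h1, inv_inv]
    group
  | @base A B e R hAR he =>
    obtain ⟨T', hT', hc, h'⟩ := he.symm
    haveI := finite_of_le he.le_S
    refine Dec.base _ T' (lt_of_le_of_ne h'.1 ?_) (h'.mono h'.1 le_rfl he.le_S)
    rintro rfl
    have h1 : Nat.card A = Nat.card B := Nat.card_congr e.toEquiv
    exact hAR.ne (eq_of_le_of_card_le he.le_S hAR.le (by omega))
  | aut a hA ha hc =>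
    exact Dec.aut a⁻¹ hA (inv_mem ha) (by rwa [orderOf_inv])
  | trans e f _ _ ih ih' => exact Dec.trans _ _ ih' ih

/-- Every isomorphism of the generated system decomposes. -/
theorem dec_of_isoIn [Finite S] [Fact p.Prime] {A B : Subgroup Ω} {e : A ≃* B}
    (he : IsoIn (genSystem θ Z p F N) e) : Dec θ Z p F N e := by
  haveI : Finite (preimageAlong θ U') := finite_of_le preimageAlong_le
  let D : FusionSystem (preimageAlong θ U') :=
    { Hom := fun A => {φ | φ ∈ (genSystem θ Z p F N).Hom A ∧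
        ∀ (B : Subgroup Ω) (e : A ≃* B), (∀ x, (e x : Ω) = φ x) → Dec θ Z p F N e}
      le_of_mem := fun h => (genSystem θ Z p F N).le_of_mem h.1
      injective_of_mem := fun h => (genSystem θ Z p F N).injective_of_mem h.1
      conj_mem := fun {A' g} hA' hg => ⟨(genSystem θ Z p F N).conj_mem hA' hg,
        fun B' e' he' => Dec.conj e' g hA' hg he'⟩
      comp_mem := by
        rintro A' Q φ ψ ⟨hφ, h1⟩ ⟨hψ, h2⟩ hv
        refine ⟨(genSystem θ Z p F N).comp_mem hφ hψ hv, fun B' e' he' => ?_⟩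
        let eφ := homIso hφ (rfl : φ.range = φ.range)
        have hb1 := h1 _ eφ fun x => rfl
        have hle : φ.range ≤ Q := by rintro _ ⟨x, rfl⟩; exact hv x
        let eψ : φ.range ≃* B' := eφ.symm.trans e'
        have heψ : ∀ y, (eψ y : Ω) = ψ (Subgroup.inclusion hle y) := by
          intro y
          show (e' (eφ.symm y) : Ω) = _
          rw [he']
          exact congrArg ψ (Subtype.ext (congrArg Subtype.val (eφ.apply_symm_apply y) :))
        have hb2 : Dec θ Z p F N eψ := by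
          by_cases hQ : φ.range = Q
          · subst hQ
            exact h2 _ eψ fun y => (heψ y)
          · exact Dec.base eψ Q (lt_of_le_of_ne hle hQ)
              ⟨hle, ψ, hψ, fun y => hom_mem hψ y, fun y hy hyQ => (heψ ⟨y, hy⟩).symm⟩
        have := Dec.trans _ _ hb1 hb2
        rwa [show eφ.trans eψ = e' from MulEquiv.ext fun x => by simp [eψ]] at this
      inv_mem := by
        rintro A' φ ⟨hφ, h1⟩
        obtain ⟨ψ, hψ, hψe⟩ := (genSystem θ Z p F N).inv_mem hφ
        refine ⟨ψ, ⟨hψ, fun B' e' he' => ?_⟩, hψe⟩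
        let eφ := homIso hφ (rfl : φ.range = φ.range)
        have h3 := dec_symm h (h1 _ eφ fun x => rfl)
        have hval : ∀ y, (e' y : Ω) = (eφ.symm y : Ω) := fun y => by
          obtain ⟨x, hx⟩ : ∃ x, eφ x = y := ⟨_, eφ.apply_symm_apply y⟩
          subst hx
          rw [he', MulEquiv.symm_apply_apply]
          exact hψe x
        obtain rfl : B' = A' := le_antisymm
          (fun b hb => by
            have := (eφ.symm (e'.symm ⟨b, hb⟩)).2
            rwa [← hval, MulEquiv.apply_symm_apply] at this)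
          (fun a ha => by
            have := (e' (eφ ⟨a, ha⟩)).2
            rwa [hval, MulEquiv.symm_apply_apply] at this)
        rwa [show e' = eφ.symm from MulEquiv.ext fun y => Subtype.ext (hval y)] }
  have hgen : IsGen θ Z p F N D := by
    intro P hP a ha hc
    refine (mem_autGroup hP.2.1).2 ⟨(mem_autGroup hP.2.1).1 (coprime_mem_gen hP ha hc), fun B' e' he' => ?_⟩
    obtain rfl : B' = P := le_antisymm
      (fun b hb => by
        have := (a (e'.symm ⟨b, hb⟩)).2
        have h1 := he' (e'.symm ⟨b, hb⟩)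
        rw [MulEquiv.apply_symm_apply] at h1
        exact Set.mem_of_eq_of_mem (s := (P : Set Ω)) h1 this)
      (fun b hb => by
        have := (e' (a⁻¹ ⟨b, hb⟩)).2
        rw [he'] at this
        simpa using this)
    rw [show e' = (a : B' ≃* B') from MulEquiv.ext fun x => Subtype.ext (he' x)]
    exact Dec.aut a hP ha hc
  exact (he.2 D hgen).2 _ e fun x => rfl

/-- Every conjugate moves its normalizer into that of a member with largest normalizer. -/
theorem gen_toP [Finite S] [Fact p.Prime] {Pm A : Subgroup Ω}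
    (hgood : GoodAbove (genSystem θ Z p F N) p Pm)
    (hmax : ∀ B, (genSystem θ Z p F N).IsConj Pm B →
      Nat.card (normalizerIn (preimageAlong θ U') B) ≤ Nat.card (normalizerIn (preimageAlong θ U') Pm))
    (hA : (genSystem θ Z p F N).IsConj Pm A) : ToP (genSystem θ Z p F N) Pm A := by
  set U := preimageAlong θ U'
  haveI : Finite U := finite_of_le preimageAlong_le
  have hS : IsPGroup p U := preP h
  have hnone : ∀ (n : ℕ) (R : Subgroup Ω), Nat.card U - Nat.card R ≤ n →
      ¬ IsBadEdge (genSystem θ Z p F N) Pm R := by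
    intro n
    induction n with
    | zero =>
      intro R hR hb
      obtain ⟨R₂, h₂, hc⟩ := exists_bigger_badEdge hS hgood hmax hb
      obtain ⟨_, _, -, -, h3, -⟩ := h₂
      have := card_le_of_le (h3.trans (normalizerIn_le _))
      omega
    | succ n ih =>
      intro R hR hb
      obtain ⟨R₂, h₂, hc⟩ := exists_bigger_badEdge hS hgood hmax hb
      exact ih R₂ (by omega) h₂
  by_contra hnot
  obtain ⟨e, he⟩ := isConj_iff.1 (isConj_symm hA)
  have key : ∀ {A B : Subgroup Ω} (e : A ≃* B), Dec θ Z p F N e →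
      ToP (genSystem θ Z p F N) Pm B → ¬ ToP (genSystem θ Z p F N) Pm A →
      ∃ R, IsBadEdge (genSystem θ Z p F N) Pm R := by
    intro A B e hd
    induction hd with
    | @conj A B e g hA hg he =>
      rintro ⟨f, hf⟩ hA'
      refine absurd ⟨e.trans f, ExtIso.trans ?_ hf⟩ hA'
      have h0 : ExtIso (genSystem θ Z p F N) U U e := ⟨hA, _, (genSystem θ Z p F N).conj_mem le_rfl hg,
        fun x => U.mul_mem (U.mul_mem hg x.2) (U.inv_mem hg), fun x hx hT => (he ⟨x, hx⟩).symm⟩
      exact ((h0.mono (le_normalizerIn hA) (normalizerIn_le A) le_rfl).normalizes inf_le_right).mono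
        (le_normalizerIn hA) le_rfl inf_le_right
    | @base A B e R hAR he =>
      rintro ⟨g, hg⟩ hA'
      have hRS : R ≤ U := he.le_S
      haveI := finite_of_le hRS
      have hlt : A < normalizerIn R A := lt_normalizerIn (hS.to_le hRS) hAR
      have h1 : ExtIso (genSystem θ Z p F N) (normalizerIn R A) (normalizerIn U B) e :=
        ((he.mono hlt.le inf_le_left le_rfl).normalizes inf_le_right).mono hlt.le le_rfl inf_le_right
      exact ⟨normalizerIn R A, A, e.trans g, hA', hlt,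
        le_inf (inf_le_left.trans hRS) inf_le_right, h1.trans hg⟩
    | aut a hA ha hc => exact fun h1 h2 => absurd h1 h2
    | @trans A B C e f he hf ih ih' =>
      intro hC hA'
      by_cases hB : ToP (genSystem θ Z p F N) Pm B
      · exact ih hB hA'
      · exact ih' hC hB
  obtain ⟨R, hR⟩ := key e (dec_of_isoIn h he)
    ⟨MulEquiv.refl Pm, extIso_refl _ (normalizerIn_le Pm) (le_normalizerIn he.le_right)⟩ hnot
  exact hnone _ R le_rfl hR

theorem card_pre_normalizer [Finite S] {P' : Subgroup Ω'} (hP' : P' ≤ S') :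
    Nat.card (normalizerIn (preimageAlong θ U') (preimageAlong θ P')) =
      Nat.card Z * Nat.card (normalizerIn U' P') := by
  rw [← card_range_inf (zle h) (hker h) (hrange h) ((normalizerIn_le P').trans (u_le h))]
  refine Nat.card_congr
    { toFun := fun x => ⟨⟨x, preimageAlong_le x.2.1⟩, (mem_preimageAlong.1 x.2.1).2,
        (conj_induced (hker h) (hrange h) hP' ⟨x, preimageAlong_le x.2.1⟩).1 x.2.2⟩
      invFun := fun x => ⟨(x : S), mem_preimageAlong.2 ⟨(x : S).2, x.2.1⟩,
        (conj_induced (hker h) (hrange h) hP' (x : S)).2 x.2.2⟩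
      left_inv := fun x => rfl
      right_inv := fun x => rfl }

/-- The image of a member with largest normalizer is fully normalized. -/
theorem image_fn_of_max [Finite S] [Fact p.Prime] {Pm : Subgroup Ω} (hPm : InFamily θ Z N Pm)
    (hmax : ∀ B, (genSystem θ Z p F N).IsConj Pm B →
      Nat.card (normalizerIn (preimageAlong θ U') B) ≤ Nat.card (normalizerIn (preimageAlong θ U') Pm)) :
    N.IsFullyNormalized (imageAlong θ Pm) := by
  haveI := efinite h
  have hP' := image_le h hPm.2.1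
  refine ⟨hP', ?_⟩
  rintro R ⟨ψ, hψ, rfl⟩
  obtain ⟨φ, hφ, hi⟩ := exists_lift_hom h hψ
  have heq := pre_image h (hPm.2.1.trans preimageAlong_le) hPm.1
  have hR : ψ.range ≤ S' := (range_le hψ).trans (u_le h)
  have hc : (genSystem θ Z p F N).IsConj Pm (preimageAlong θ ψ.range) := by
    refine ⟨_, restrict_mem hφ heq.ge, ?_⟩
    have hi' : InducedAlong θ (φ.comp (Subgroup.inclusion heq.ge)) ψ :=
      ⟨hPm.2.1.trans preimageAlong_le, fun x => hom_mem (gen_isSubsystem _ hφ) _,
        fun x => mem_imageAlong.2 ⟨x, preimageAlong_le (hPm.2.1 x.2), x.2, rfl⟩,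
        fun x => inducedAlong_apply hi (x := Subgroup.inclusion heq.ge x) rfl⟩
    exact range_eq_preimage h hPm.1 (gen_isSubsystem _ (restrict_mem hφ heq.ge)) hi'
  have h1 := hmax _ hc
  rw [card_pre_normalizer h hR] at h1
  have h2 := card_pre_normalizer h (hP'.trans (u_le h))
  rw [heq] at h2
  rw [h2] at h1
  haveI := finite_of_le (zle h)
  exact Nat.le_of_mul_le_mul_left h1 Nat.card_pos

/-- Restrictions from a stabilizer with induced Sylow subgroup land in `B₀`. -/
theorem stab_mem [Finite S] [Fact p.Prime] {Pm A R0 : Subgroup Ω} (hPm : InFamily θ Z N Pm)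
    {B₀ : Subgroup (MulAut Pm)} (hB : KerData θ Z p F N Pm B₀) (hAR : A ≤ R0)
    (hR0 : R0 ≤ preimageAlong θ U') (hst : SylowStab (genSystem θ Z p F N) p R0 A)
    {χ : A ≃* Pm}
    (hχ : ExtIso (genSystem θ Z p F N) (normalizerIn (preimageAlong θ U') A)
      (normalizerIn (preimageAlong θ U') Pm) χ)
    (k : stabAut (genSystem θ Z p F N) R0 A) : MulAut.congr χ (restrAut hAR k) ∈ B₀ := by
  haveI : Finite (preimageAlong θ U') := finite_of_le preimageAlong_le
  haveI := finite_mulAut_of_le hR0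
  obtain ⟨W, hW⟩ := hst
  refine hB.map_mem ((MulAut.congr χ).toMonoidHom.comp (restrAut hAR))
    (fun x => gen_autGroup_le hPm.2.1 (congr_mem_autGroup hχ.isoIn (restrAut_mem hAR hR0 x))) W
    (fun x hx => ?_) k
  have hx' : x ∈ (W : Subgroup (stabAut (genSystem θ Z p F N) R0 A)) := hx
  rw [hW, Subgroup.mem_subgroupOf] at hx'
  obtain ⟨t, ht, hte⟩ := mem_autInducedBy.1 hx'
  have hta : ∀ a : A, ((restrAut hAR x a : A) : Ω) = t * (a : Ω) * t⁻¹ := fun a => hte ⟨a, hAR a.2⟩
  have hn := mem_normalizer_of_aut hta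
  refine hB.induced ?_
  show MulAut.congr χ (restrAut hAR x) ∈ _
  rw [show restrAut hAR x = conjAut A hn from MulEquiv.ext fun a => Subtype.ext (hta a)]
  exact congr_induced hχ ⟨ht, hn⟩ hn

set_option maxHeartbeats 1600000 in
/-- An automorphism extending to a bigger subgroup lies in `B₀`. -/
theorem extGen_mem [Finite S] [Fact p.Prime] {Pm : Subgroup Ω} (hPm : InFamily θ Z N Pm)
    {B₀ : Subgroup (MulAut Pm)} (hB : KerData θ Z p F N Pm B₀)
    (hgood : GoodAbove (genSystem θ Z p F N) p Pm)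
    (hclass : ∀ A, (genSystem θ Z p F N).IsConj Pm A → ToP (genSystem θ Z p F N) Pm A) :
    ∀ (n : ℕ) (R : Subgroup Ω) (α : MulAut Pm), Nat.card (preimageAlong θ U') - Nat.card R = n →
      Pm < R → R ≤ normalizerIn (preimageAlong θ U') Pm →
      ExtIso (genSystem θ Z p F N) R (normalizerIn (preimageAlong θ U') Pm) (α : Pm ≃* Pm) → α ∈ B₀ := by
  set U := preimageAlong θ U' with hU
  haveI : Finite U := finite_of_le preimageAlong_le
  have hS : IsPGroup p U := preP h
  intro n
  induction n using Nat.strong_induction_on with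
  | _ n ih =>
  intro R α hn hPR hRN hext
  have hRS : R ≤ U := hRN.trans (normalizerIn_le Pm)
  haveI := finite_of_le hRS
  haveI := finite_of_le (normalizerIn_le (S := U) Pm)
  have hcard : Nat.card Pm < Nat.card R := by
    by_contra hh
    exact hPR.ne (Subgroup.eq_of_le_of_card_ge hPR.le (not_lt.1 hh))
  obtain ⟨R0, hR0, hfa, hrec⟩ := hgood R hRS hcard
  obtain ⟨-, ψ, hψ, hψv, hψe⟩ := id hext
  obtain ⟨R', E₁, hE, -, hR', -, -, hEv⟩ := exists_image_iso (A := R) hψ le_rfl
  have hR'N : R' ≤ normalizerIn U Pm := by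
    rw [hR']
    rintro _ ⟨x, -, rfl⟩
    exact hψv x
  have hc : ∀ a : Pm, ((α a : Pm) : Ω) = (E₁ ⟨a, hPR.le a.2⟩ : Ω) := fun a => by
    rw [hEv]
    exact (hψe a a.2 _).symm
  have hPR' : Pm ≤ R' := by
    intro y hy
    have := (E₁ ⟨_, hPR.le ((α : Pm ≃* Pm).symm ⟨y, hy⟩).2⟩).2
    rwa [← hc, MulEquiv.apply_symm_apply] at this
  have hcR' : Nat.card R = Nat.card R' := Nat.card_congr E₁.toEquiv
  have hR'R0 : (genSystem θ Z p F N).IsConj R' R0 :=
    isConj_trans (isConj_symm (isConj_iff.2 ⟨E₁, hE.isoIn⟩)) hR0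
  have hPA : ∀ {A : Subgroup Ω} {e : Pm ≃* A}, IsoIn (genSystem θ Z p F N) e →
      ToP (genSystem θ Z p F N) Pm A := fun he => hclass _ (isConj_iff.2 ⟨_, he⟩)
  have hAutB : ∀ {μ : MulAut Pm}, IsoIn (genSystem θ Z p F N) (μ : Pm ≃* Pm) →
      μ ∈ (preSystem θ F N).autGroup Pm := fun hμ =>
    gen_autGroup_le hPm.2.1 ((mem_autGroup hPm.2.1).2 hμ)
  set T := normalizerIn (normalizerIn U Pm) R with hTdef
  have hTN : T ≤ normalizerIn U Pm := inf_le_left
  have hTR : T ≤ normalizerIn U R := le_inf (hTN.trans (normalizerIn_le Pm)) inf_le_right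
  obtain ⟨A', eA, g, hA'R, hst', heA, hg, hgc⟩ := exists_good_move (A := Pm) hS hfa hrec hR0
    hPR.le (le_normalizerIn hRN) hTR (hTN.trans inf_le_right)
  obtain ⟨χ, hχ⟩ := hPA heA.isoIn
  let μ : MulAut Pm := eA.trans χ
  have hμA : μ ∈ (preSystem θ F N).autGroup Pm := hAutB (heA.isoIn.trans hχ.isoIn)
  by_cases hRtop : R = normalizerIn U Pm
  · -- the whole normalizer
    obtain rfl : R' = R := Subgroup.eq_of_le_of_card_ge (hRtop ▸ hR'N) hcR'.le
    let Δ : MulAut R0 := g.symm.trans (E₁.trans g)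
    have hΔ : Δ ∈ (genSystem θ Z p F N).autGroup R0 :=
      (mem_autGroup hrec.1).2 (hg.isoIn.symm.trans (hE.isoIn.trans hg.isoIn))
    have hmap : ∀ x : R0, (x : Ω) ∈ A' ↔ ((Δ x : R0) : Ω) ∈ A' := fun x => by
      have e1 := mem_iff_of_compat g eA hPR.le hgc (g.symm x)
      rw [MulEquiv.apply_symm_apply] at e1
      rw [← e1, mem_iff_of_compat E₁ (α : Pm ≃* Pm) hPR.le hc, mem_iff_of_compat g eA hPR.le hgc]
      rfl
    have h1 := stab_mem h hPm hB hA'R hrec.1 hst' hχ ⟨Δ, hΔ, hmap⟩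
    have e2 : MulAut.congr χ (restrAut hA'R ⟨Δ, hΔ, hmap⟩) = μ * α * μ⁻¹ := by
      refine MulEquiv.ext fun y => ?_
      obtain ⟨x, rfl⟩ := μ.surjective y
      rw [MulAut.mul_apply, MulAut.mul_apply, MulAut.inv_apply_self]
      show χ (restrAut hA'R _ (χ.symm (χ (eA x)))) = χ (eA (α x))
      rw [MulEquiv.symm_apply_apply]
      refine congrArg χ (Subtype.ext ?_)
      rw [coe_restrAut]
      refine Eq.trans ?_ (hgc (α x)).symm
      show ((g (E₁ (g.symm ⟨(eA x : Ω), _⟩)) : R0) : Ω) = _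
      rw [show (⟨(eA x : Ω), hA'R (eA x).2⟩ : R0) = g ⟨x, hPR.le x.2⟩ from Subtype.ext (hgc x),
        MulEquiv.symm_apply_apply]
      exact congrArg (fun z : R' => (g z : Ω)) (Subtype.ext (hc x).symm)
    rw [e2] at h1
    have := hB.conj μ⁻¹ (inv_mem hμA) _ h1
    simpa [mul_assoc] using this
  have hRlt : R < T := lt_normalizerIn (hS.to_le (normalizerIn_le Pm)) (lt_of_le_of_ne hRN hRtop)
  have hlt_card : ∀ {X Y : Subgroup Ω}, X < Y → Y ≤ U → Nat.card X < Nat.card Y := fun hXY hY => by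
    haveI := finite_of_le hY
    exact Set.Finite.card_lt_card (Set.toFinite _) hXY
  have hind : ∀ (T₀ : Subgroup Ω) (β : MulAut Pm), Nat.card R < Nat.card T₀ → Pm < T₀ →
      T₀ ≤ normalizerIn U Pm →
      ExtIso (genSystem θ Z p F N) T₀ (normalizerIn U Pm) (β : Pm ≃* Pm) → β ∈ B₀ := by
    intro T₀ β hcT hlt hle hβ
    refine ih _ ?_ T₀ β rfl hlt hle hβ
    have := card_le_of_le (hle.trans (normalizerIn_le Pm))
    rw [hU] at this
    omega
  have hTU : T ≤ U := hTN.trans (normalizerIn_le Pm)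
  have hμB : μ ∈ B₀ := hind T μ (hlt_card hRlt hTU) (hPR.trans hRlt) hTN
    ((heA.mono heA.1 le_rfl inf_le_right).trans hχ)
  have hR'ne : R' ≠ normalizerIn U Pm := by
    rintro rfl
    exact hRtop (Subgroup.eq_of_le_of_card_ge hRN hcR'.ge)
  set T₁ := normalizerIn (normalizerIn U Pm) R' with hT₁def
  have hT₁ : R' < T₁ := lt_normalizerIn (hS.to_le (normalizerIn_le Pm)) (lt_of_le_of_ne hR'N hR'ne)
  obtain ⟨A'', eP, g₁, hA''R, hst'', heP, hg₁, hg₁c⟩ := exists_good_move (A := Pm) hS hfa hrec hR'R0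
    hPR' hT₁.le (le_inf (inf_le_left.trans (normalizerIn_le Pm)) inf_le_right)
    (inf_le_left.trans inf_le_right)
  obtain ⟨χ₁, hχ₁⟩ := hPA heP.isoIn
  let μ₁ : MulAut Pm := eP.trans χ₁
  have hμ₁B : μ₁ ∈ B₀ := hind T₁ μ₁ (hcR' ▸ hlt_card hT₁ (inf_le_left.trans (normalizerIn_le Pm)))
    (lt_of_le_of_lt hPR' hT₁) inf_le_left ((heP.mono heP.1 le_rfl inf_le_right).trans hχ₁)
  let Δ : MulAut R0 := g.symm.trans (E₁.trans g₁)
  have hΔ : Δ ∈ (genSystem θ Z p F N).autGroup R0 :=
    (mem_autGroup hrec.1).2 (hg.isoIn.symm.trans (hE.isoIn.trans hg₁.isoIn))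
  have hmap : ∀ x : R0, (x : Ω) ∈ A' ↔ ((Δ x : R0) : Ω) ∈ A'' := fun x => by
    have e1 := mem_iff_of_compat g eA hPR.le hgc (g.symm x)
    rw [MulEquiv.apply_symm_apply] at e1
    rw [← e1, mem_iff_of_compat E₁ (α : Pm ≃* Pm) hPR.le hc, mem_iff_of_compat g₁ eP hPR' hg₁c]
    rfl
  have hR0n : R0 ≤ Subgroup.normalizer (A' : Set Ω) :=
    normalizes_of_compat g eA hPR.le hA'R hgc (hRN.trans inf_le_right)
  obtain ⟨k, e', he'e, he'⟩ := exists_adjust_stab hS hrec hA'R hA''R hR0n hst'' hΔ hmap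
  have hkB := stab_mem h hPm hB hA''R hrec.1 hst'' hχ₁ k
  let β : MulAut Pm := χ.symm.trans (e'.trans χ₁)
  have hβB : β ∈ B₀ := by
    set T₂ := normalizerIn U R0 ⊓ normalizerIn U A'
    have hT₂U : T₂ ≤ U := inf_le_left.trans (normalizerIn_le R0)
    obtain ⟨T', hT', hcT', hT'e⟩ :=
      (hχ.mono (T' := T₂) (le_inf (hA'R.trans (le_normalizerIn hrec.1))
        (le_normalizerIn (hA'R.trans hrec.1))) inf_le_right le_rfl).symm
    have hcT : Nat.card R < Nat.card T' := by
      rw [hcT']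
      exact lt_of_lt_of_le (hlt_card hRlt hTU) (heA.card_le hT₂U)
    refine hind T' β hcT (lt_of_le_of_ne hT'e.1 fun he => ?_) hT'
      ((hT'e.trans he').trans (hχ₁.mono (le_inf (hA''R.trans (le_normalizerIn hrec.1))
        (le_normalizerIn (hA''R.trans hrec.1))) inf_le_right le_rfl))
    rw [← he] at hcT
    omega
  have e3 : μ₁ * α = (MulAut.congr χ₁ (restrAut hA''R k))⁻¹ * β * μ := by
    rw [eq_comm, mul_assoc, inv_mul_eq_iff_eq_mul]
    refine MulEquiv.ext fun x => ?_
    rw [MulAut.mul_apply, MulAut.mul_apply]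
    show χ₁ (e' (χ.symm (χ (eA x)))) =
      χ₁ (restrAut hA''R k (χ₁.symm (χ₁ (eP (α x)))))
    rw [MulEquiv.symm_apply_apply, MulEquiv.symm_apply_apply]
    refine congrArg χ₁ (Subtype.ext ?_)
    rw [he'e, coe_restrAut]
    refine congrArg (fun z : R0 => (((k : MulAut R0) z : R0) : Ω)) (Subtype.ext ?_)
    show ((g₁ (E₁ (g.symm ⟨(eA x : Ω), _⟩)) : R0) : Ω) = (eP (α x) : Ω)
    rw [show (⟨(eA x : Ω), hA'R (eA x).2⟩ : R0) = g ⟨x, hPR.le x.2⟩ from Subtype.ext (hgc x),
      MulEquiv.symm_apply_apply, hg₁c]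
    exact congrArg (fun z : R' => (g₁ z : Ω)) (Subtype.ext (hc x).symm)
  have h4 : μ₁ * α ∈ B₀ := e3 ▸ mul_mem (mul_mem (inv_mem hkB) hβB) hμB
  have := mul_mem (inv_mem hμ₁B) h4
  rwa [inv_mul_cancel_left] at this

/-- The automizer of a member with largest normalizer lies in `B₀`. -/
theorem gen_autGroup_le_ker [Finite S] [Fact p.Prime] {Pm : Subgroup Ω} (hPm : InFamily θ Z N Pm)
    {B₀ : Subgroup (MulAut Pm)} (hB : KerData θ Z p F N Pm B₀)
    (hgood : GoodAbove (genSystem θ Z p F N) p Pm)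
    (hclass : ∀ A, (genSystem θ Z p F N).IsConj Pm A → ToP (genSystem θ Z p F N) Pm A) :
    (genSystem θ Z p F N).autGroup Pm ≤ B₀ := by
  set U := preimageAlong θ U' with hU
  haveI : Finite U := finite_of_le preimageAlong_le
  have hS : IsPGroup p U := preP h
  intro α hα
  by_cases hPU : Pm = U
  · -- the top
    subst hPU
    have key : ∀ {A B : Subgroup Ω} (e : A ≃* B), Dec θ Z p F N e → A = preimageAlong θ U' →
        B = preimageAlong θ U' ∧ ∃ a ∈ B₀, ∀ (x : A) (hx : (x : Ω) ∈ preimageAlong θ U'),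
          (e x : Ω) = (a ⟨x, hx⟩ : Ω) := by
      intro A B e hd
      have hiso := dec_isoIn h hd
      induction hd with
      | @conj A B e g hA hg he =>
        intro hAU
        have hB' : B = preimageAlong θ U' := by
          refine eq_of_le_of_card_le le_rfl hiso.le_right ?_
          rw [← Nat.card_congr e.toEquiv, hAU]
        refine ⟨hB', _, hB.induced (conjAut_mem_autInducedBy (Subgroup.le_normalizer hg) hg),
          fun x hx => he x⟩
      | @base A B e R hAR he =>
        rintro rfl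
        exact absurd he.le_S hAR.not_ge
      | aut a hA ha hc =>
        rintro rfl
        exact ⟨rfl, a, hB.coprime a ha hc, fun x hx => rfl⟩
      | @trans A B C e f hde hdf ih ih' =>
        intro hAU
        obtain ⟨hBU, a, haB, hae⟩ := ih (dec_isoIn h hde) hAU
        obtain ⟨hCU, b, hbB, hbe⟩ := ih' (dec_isoIn h hdf) hBU
        refine ⟨hCU, b * a, mul_mem hbB haB, fun x hx => ?_⟩
        show (f (e x) : Ω) = _
        rw [hbe (e x) (hBU.le (e x).2), MulAut.mul_apply]
        exact congrArg (fun z : preimageAlong θ U' => ((b z : _) : Ω)) (Subtype.ext (hae x hx))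
    obtain ⟨-, a, ha, hae⟩ := key _ (dec_of_isoIn h ((mem_autGroup le_rfl).1 hα)) rfl
    rwa [show α = a from MulEquiv.ext fun x => Subtype.ext (hae x x.2)]
  have hPmU : Pm < U := lt_of_le_of_ne hPm.2.1 hPU
  have hcard : Nat.card Pm < Nat.card U := Set.Finite.card_lt_card (Set.toFinite _) hPmU
  have hext : ∀ {A B : Subgroup Ω} (e : A ≃* B) (R : Subgroup Ω), A < R →
      ExtIso (genSystem θ Z p F N) R U e → ∀ (a : A ≃* Pm) (b : B ≃* Pm),
      ExtIso (genSystem θ Z p F N) (normalizerIn U A) (normalizerIn U Pm) a →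
      ExtIso (genSystem θ Z p F N) (normalizerIn U B) (normalizerIn U Pm) b →
      (a.symm.trans (e.trans b) : MulAut Pm) ∈ B₀ := by
    intro A B e R hAR he a b ha hb
    have hRS : R ≤ U := he.le_S
    haveI := finite_of_le hRS
    have hlt : A < normalizerIn R A := lt_normalizerIn (hS.to_le hRS) hAR
    have h1 : ExtIso (genSystem θ Z p F N) (normalizerIn R A) (normalizerIn U B) e :=
      ((he.mono hlt.le inf_le_left le_rfl).normalizes inf_le_right).mono hlt.le le_rfl inf_le_right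
    have h2 := ha.mono (T' := normalizerIn R A) hlt.le
      (le_inf (inf_le_left.trans hRS) inf_le_right) le_rfl
    obtain ⟨T', hT', hcT', h2'⟩ := h2.symm
    haveI : Finite T' := finite_of_le (hT'.trans (normalizerIn_le Pm))
    refine extGen_mem h hPm hB hgood hclass _ T' _ rfl (lt_of_le_of_ne h2'.1 ?_) hT'
      (((h2'.trans h1).trans hb).congr fun x => rfl)
    rintro rfl
    haveI : Finite (normalizerIn R A) := finite_of_le (inf_le_left.trans hRS)
    have h3 : Nat.card A = Nat.card Pm := Nat.card_congr a.toEquiv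
    exact hlt.ne (Subgroup.eq_of_le_of_card_ge hlt.le (by omega))
  have key : ∀ {A B : Subgroup Ω} (e : A ≃* B), Dec θ Z p F N e →
      (genSystem θ Z p F N).IsConj Pm A → ∀ (a : A ≃* Pm) (b : B ≃* Pm),
      ExtIso (genSystem θ Z p F N) (normalizerIn U A) (normalizerIn U Pm) a →
      ExtIso (genSystem θ Z p F N) (normalizerIn U B) (normalizerIn U Pm) b →
      (a.symm.trans (e.trans b) : MulAut Pm) ∈ B₀ := by
    intro A B e hd
    induction hd with
    | @conj A B e g hA hg he =>
      intro hc a b ha hb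
      exact hext e U (lt_of_le_of_ne hA fun hAU => by rw [card_eq_of_isConj hc, hAU] at hcard; omega)
        ⟨hA, _, (genSystem θ Z p F N).conj_mem le_rfl hg,
          fun x => U.mul_mem (U.mul_mem hg x.2) (U.inv_mem hg), fun x hx hT => (he ⟨x, hx⟩).symm⟩ a b ha hb
    | @base A B e R hAR he => exact fun hc => hext e R hAR he
    | @aut A x hA hx hxc =>
      intro hc a b ha hb
      have h1 : (a.symm.trans ((MulEquiv.refl A).trans b) : MulAut Pm) ∈ B₀ := by
        have hAU : A < U := lt_of_le_of_ne hA.2.1 fun hAU => by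
          rw [card_eq_of_isConj hc, hAU] at hcard; omega
        exact hext _ U hAU ((extIso_refl _ le_rfl hAU.le)) a b ha hb
      have h2 : MulAut.congr a x ∈ B₀ := hB.coprime _
        (pre_congr h (gen_isSubsystem _ ha.isoIn) hA.2.1 hPm.2.1 hx) (by
          rwa [MulEquiv.orderOf_eq])
      have h3 := mul_mem h1 h2
      convert h3 using 1
      refine MulEquiv.ext fun y => ?_
      simp [MulAut.mul_apply, MulAut.congr]
    | @trans A B C e f he hf ih ih' =>
      intro hc a b ha hb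
      have hB : (genSystem θ Z p F N).IsConj Pm B :=
        isConj_trans hc (isConj_iff.2 ⟨e, dec_isoIn h he⟩)
      obtain ⟨c, hcc⟩ := hclass B hB
      have h1 := mul_mem (ih' hB c b hcc hb) (ih hc a c ha hcc)
      convert h1 using 1
      refine MulEquiv.ext fun x => ?_
      simp [MulAut.mul_apply]
  have hr := extIso_refl (genSystem θ Z p F N) (normalizerIn_le (S := U) Pm) (le_normalizerIn hPm.2.1)
  exact key (α : Pm ≃* Pm) (dec_of_isoIn h ((mem_autGroup hPm.2.1).1 hα))
    (isConj_refl _ hPm.2.1) (MulEquiv.refl Pm) (MulEquiv.refl Pm) hr hr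

/-- The classes in the family are good. -/
theorem gen_goodClass_family [Finite S] [Fact p.Prime] (hP : InFamily θ Z N P)
    (hgood : GoodAbove (genSystem θ Z p F N) p P) : GoodClass (genSystem θ Z p F N) p P := by
  haveI : Finite (preimageAlong θ U') := finite_of_le preimageAlong_le
  obtain ⟨Pm, hc, hmax⟩ := exists_max_conj (F := genSystem θ Z p F N) hP.2.1
    (fun Q => Nat.card (normalizerIn (preimageAlong θ U') Q))
    (fun Q _ => card_le_of_le (normalizerIn_le Q))
  have hPm := family_conj h hP hc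
  have hg : GoodAbove (genSystem θ Z p F N) p Pm := fun R hR hcR =>
    hgood R hR (by rwa [card_eq_of_isConj hc])
  have hm := fun A hA => hmax A (isConj_trans hc hA)
  have hclass := fun A (hA : (genSystem θ Z p F N).IsConj Pm A) => gen_toP h hg hm hA
  obtain ⟨B₀, hB⟩ := exists_kerData h hPm (image_fn_of_max h hPm hm)
  have hle := gen_autGroup_le_ker h hPm hB hg hclass
  exact ⟨Pm, hc, gen_fullyAutomized h hPm hB hle, gen_receptive h hPm hB hle hclass⟩

end

end Cfsg.Lib.FusionSys.CentralLift
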