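import Cfsg.Agent.Lib.FusionSys.CentralLift.Kernel

/-!
The generated system is saturated.
-/

set_option autoImplicit false
set_option linter.style.haveILetI false

namespace Cfsg.Lib.FusionSys.CentralLift

open Cfsg Cfsg.FusionSystem Cfsg.Lib.FusionSys

universe u v

theorem goodClass_of_not_mem {Ω : Type*} [Group Ω] {S : Subgroup Ω} {F : FusionSystem S} {p : ℕ}
    [Finite S] [Fact p.Prime] (hS : IsPGroup p S)
    (ℋ : Set (Subgroup Ω)) (hℋconj : ∀ P ∈ ℋ, ∀ Q, F.IsConj P Q → Q ∈ ℋ)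
    (hgen : ∀ E : FusionSystem S, (∀ P ∈ ℋ, F.Hom P ⊆ E.Hom P) → F ≤ E)
    (hstar : ∀ P : Subgroup Ω, F.IsCentric P → P ∉ ℋ →
      ∃ Q, F.IsConj P Q ∧ ¬ (autInducedBy S Q ⊓ coreAut F p Q ≤ Inn Q))
    {P : Subgroup Ω} (hP : P ≤ S) (hℋ : P ∉ ℋ) (hgood : GoodAbove F p P) : GoodClass F p P := by
  have hPS : Nat.card P < Nat.card S := by
    refine lt_of_le_of_ne (card_le_of_le hP) fun h => ?_
    obtain rfl := eq_of_le_of_card_le le_rfl hP h.ge
    obtain ⟨Q, hQ, hnot⟩ := hstar P ⟨le_rfl, fun Q hQ => by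
      rw [eq_top_of_isConj hQ]
      exact centralizerIn_le P⟩ hℋ
    obtain rfl := eq_top_of_isConj hQ
    refine hnot fun a ha => ?_
    obtain ⟨g, hg, hga⟩ := mem_autInducedBy.1 ha.1
    exact ⟨⟨g, hg⟩, MulEquiv.ext fun x => Subtype.ext (hga x).symm⟩
  obtain ⟨P₁, hP₁, hmax₁⟩ := exists_max_conj (F := F) hP (fun Q => Nat.card (normalizerIn S Q))
    (fun Q _ => card_le_of_le (normalizerIn_le Q))
  have facts : ∀ Pm, F.IsConj P Pm →
      (∀ A, F.IsConj P A → Nat.card (normalizerIn S A) ≤ Nat.card (normalizerIn S Pm)) →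
      GoodAbove F p Pm ∧
        (∀ (A B : Subgroup Ω) (e : A ≃* B), IsoIn F e → F.IsConj Pm A → BigIso F e) ∧
        (∀ A, F.IsConj Pm A → Nat.card (normalizerIn S A) ≤ Nat.card (normalizerIn S Pm)) ∧
        (∀ A, F.IsConj Pm A → ToP F Pm A) := by
    intro Pm hPm hmax
    have hg : GoodAbove F p Pm := fun R hR hc => hgood R hR (by rwa [card_eq_of_isConj hPm])
    have hb : ∀ (A B : Subgroup Ω) (e : A ≃* B), IsoIn F e → F.IsConj Pm A → BigIso F e :=
      fun A B e he hA => bigIso_of_generated ℋ hℋconj hgen hℋ hPS e he (isConj_trans hPm hA)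
    have hm : ∀ A, F.IsConj Pm A → Nat.card (normalizerIn S A) ≤ Nat.card (normalizerIn S Pm) :=
      fun A hA => hmax A (isConj_trans hPm hA)
    exact ⟨hg, hb, hm, fun A hA => toP_of_isConj hS hg hb hm hA⟩
  obtain ⟨hg₁, hb₁, hm₁, hc₁⟩ := facts P₁ hP₁ hmax₁
  have hP₁S : P₁ ≤ S := (isConj_le hP₁).2
  have hlt : P₁ < coreNorm F p P₁ := by
    refine lt_coreNorm hS hc₁ hP₁S ?_
    by_cases hcen : F.IsCentric P₁
    · obtain ⟨Q, hQ, hn⟩ := hstar P₁ hcen fun h => hℋ (hℋconj P₁ h P (isConj_symm hP₁))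
      exact Or.inr ⟨Q, hQ, hn⟩
    · exact Or.inl hcen
  obtain ⟨Pm, hconj, hle, hL⟩ := exists_good_coreNorm hS hg₁ hP₁S hlt
  obtain ⟨-, hrec, hst⟩ := hL hm₁
  have hPm : F.IsConj P Pm := isConj_trans hP₁ hconj
  obtain ⟨hg, hb, -, hc⟩ := facts Pm hPm fun A hA => (hmax₁ A hA).trans hle
  have hPmS : Pm ≤ S := (isConj_le hPm).2
  obtain ⟨hfa, hr⟩ := good_of_coreNorm hS hc hPmS
    (fun α hα => extIso_coreNorm_of_mem hS hg hc hb hPmS hα) hrec hst
  exact ⟨Pm, hPm, hfa, hr⟩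

variable {Ω : Type u} [Group Ω] {S : Subgroup Ω} {Ω' : Type v} [Group Ω'] {S' : Subgroup Ω'}
  {U' : Subgroup Ω'} {p : ℕ} {F : FusionSystem S} {Z : Subgroup Ω} {θ : S →* Ω'}
  {E : FusionSystem S'} {N : FusionSystem U'} {P Q : Subgroup Ω}

section

variable (h : CSetup p F Z θ E N)
include h

theorem gen_star [Finite S] [Fact p.Prime] (hP : (genSystem θ Z p F N).IsCentric P)
    (hnot : ¬ InFamily θ Z N P) :
    ∃ Q, (genSystem θ Z p F N).IsConj P Q ∧
      ¬ (autInducedBy (preimageAlong θ U') Q ⊓ coreAut (genSystem θ Z p F N) p Q ≤ Cfsg.Inn Q) := by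
  haveI : Finite (preimageAlong θ U') := finite_of_le preimageAlong_le
  have hPS : P ≤ S := hP.1.trans preimageAlong_le
  have hZ : Z ≤ P := fun z hz => hP.2 P (isConj_refl _ hP.1) (mem_centralizerIn.2
    ⟨z_le_pre h hz, fun y hy => (z_comm h hz (hPS hy)).symm⟩)
  have hP' := image_le h hP.1
  obtain ⟨R, ⟨ψ, hψ, rfl⟩, hR⟩ : ∃ R, N.IsConj (imageAlong θ P) R ∧
      ¬ centralizerIn U' R ≤ R := by
    by_contra hh
    exact hnot ⟨hZ, hP.1, hP', fun R hR => by_contra fun h1 => hh ⟨R, hR, h1⟩⟩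
  obtain ⟨φ, hφ, hi⟩ := exists_lift_hom h hψ
  have heq := pre_image h hPS hZ
  have hψU : ψ.range ≤ U' := range_le hψ
  have hψS : ψ.range ≤ S' := hψU.trans (u_le h)
  set Q := preimageAlong θ ψ.range with hQdef
  have hc : (genSystem θ Z p F N).IsConj P Q := by
    refine ⟨_, restrict_mem hφ heq.ge, ?_⟩
    exact range_eq_preimage h hZ (gen_isSubsystem _ (restrict_mem hφ heq.ge))
      (⟨hPS, fun x => hom_mem (gen_isSubsystem _ hφ) _,
        fun x => mem_imageAlong.2 ⟨x, hPS x.2, x.2, rfl⟩,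
        fun x => inducedAlong_apply hi (x := Subgroup.inclusion heq.ge x) rfl⟩ : InducedAlong θ _ ψ)
  obtain ⟨g', hg', hgR⟩ := SetLike.not_le_iff_exists.1 hR
  obtain ⟨hgU, hgc⟩ := mem_centralizerIn.1 hg'
  obtain ⟨⟨g, hgS⟩, rfl⟩ := u_le_range h hgU
  have hgU2 : g ∈ preimageAlong θ U' := mem_preimageAlong.2 ⟨hgS, hgU⟩
  have hQU : Q ≤ preimageAlong θ U' := fun x hx => by
    obtain ⟨hxS, hx'⟩ := mem_preimageAlong.1 hx
    exact mem_preimageAlong.2 ⟨hxS, hψU hx'⟩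
  have hgn : g ∈ Subgroup.normalizer (Q : Set Ω) :=
    (conj_induced (hker h) (hrange h) hψS ⟨g, hgS⟩).2 (Subgroup.mem_normalizer_iff.2 fun y => by
      constructor
      · intro hy; rwa [hgc y hy, mul_inv_cancel_right]
      · intro hy
        have h1 := hgc _ hy
        have h2 : θ ⟨g, hgS⟩ * y * (θ ⟨g, hgS⟩)⁻¹ = y :=
          mul_left_cancel (h1.trans (inv_mul_cancel_right _ _))
        rwa [h2] at hy)
  refine ⟨Q, hc, fun hle => hgR ?_⟩
  have hQS : Q ≤ S := preimageAlong_le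
  have hk : conjAut Q hgn ∈ kerAut F Z Q := by
    refine ⟨autInducedBy_le_autGroup hQS (conjAut_mem_autInducedBy hgn hgS), fun x => ?_⟩
    rw [coe_conjAut]
    refine (hker h (⟨x, hQS x.2⟩⁻¹ * (⟨g, hgS⟩ * ⟨x, hQS x.2⟩ * ⟨g, hgS⟩⁻¹))).1 ?_
    simp only [map_mul, map_inv]
    rw [hgc _ (mem_preimageAlong.1 x.2).2, mul_inv_cancel_right, inv_mul_cancel]
  have hA := autInducedBy_le_autGroup (F := genSystem θ Z p F N) hQU (conjAut_mem_autInducedBy hgn hgU2)
  haveI := finite_mulAut_of_le hQS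
  set G := (genSystem θ Z p F N).autGroup Q with hG
  haveI hn : ((kerAut F Z Q).subgroupOf G).Normal :=
    ⟨fun a ha b => kerAut_conj h (hP := hQS)
      (pre_le_autGroup h hQU (gen_autGroup_le hQU b.2)) ha⟩
  have hcore : conjAut Q hgn ∈ coreAut (genSystem θ Z p F N) p Q :=
    ⟨⟨_, hA⟩, Cfsg.Lib.Core.le_pCore' hn ((isPGroup_kerAut h hQS).comap_subtype (K := G)) hk, rfl⟩
  obtain ⟨q, hq⟩ := hle ⟨conjAut_mem_autInducedBy hgn hgU2, hcore⟩
  have hqg : (q : Ω)⁻¹ * g ∈ Q := hP.2 Q hc (mem_centralizerIn.2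
    ⟨mul_mem (inv_mem (hQU q.2)) hgU2, fun y hy => by
      have h1 : (q : Ω) * y * (q : Ω)⁻¹ = g * y * g⁻¹ :=
        congrArg (fun f : MulAut Q => ((f ⟨y, hy⟩ : Q) : Ω)) hq
      calc (q : Ω)⁻¹ * g * y = (q : Ω)⁻¹ * (g * y * g⁻¹) * g := by group
        _ = _ := by rw [← h1]; group⟩)
  have hgQ : g ∈ Q := by
    have := Q.mul_mem q.2 hqg
    rwa [mul_inv_cancel_left] at this
  exact (mem_preimageAlong.1 hgQ).2

/-- The generated system is saturated. -/
theorem gen_isSaturated [Finite S] [Fact p.Prime] : (genSystem θ Z p F N).IsSaturated p := by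
  haveI : Finite (preimageAlong θ U') := finite_of_le preimageAlong_le
  suffices hall : ∀ (n : ℕ) (P : Subgroup Ω), P ≤ preimageAlong θ U' →
      Nat.card (preimageAlong θ U') - Nat.card P = n → GoodClass (genSystem θ Z p F N) p P from
    fun P hP => hall _ P hP rfl
  intro n
  induction n using Nat.strong_induction_on with
  | _ n ih =>
    intro P hP hn
    have hgood : GoodAbove (genSystem θ Z p F N) p P := fun R hR hc => by
      have := card_le_of_le hR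
      exact ih _ (by omega) R hR rfl
    by_cases hfam : InFamily θ Z N P
    · exact gen_goodClass_family h hfam hgood
    · exact goodClass_of_not_mem (preP h) {Q | InFamily θ Z N Q} (fun Q hQ R hR => family_conj h hQ hR)
        (fun K hK => gen_le_of K hK) (fun Q hQ hQn => gen_star h hQ hQn) hP hfam hgood

end

end Cfsg.Lib.FusionSys.CentralLift
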