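import Cfsg.Agent.Lib.FusionSys.Solvable
import Cfsg.Agent.Lib.FusionSys.ResidualExtension
import Cfsg.Agent.Lib.FusionSys.GoodAut

/-!
Lifting a normal subsystem of a central factor system: the setting, the subsystem of all lifts, the
automorphisms inducing the identity.
-/

set_option autoImplicit false
set_option linter.style.haveILetI false

namespace Cfsg.Lib.FusionSys.CentralLift

open Cfsg Cfsg.FusionSystem Cfsg.Lib.FusionSys

variable {Ω : Type*} [Group Ω] {S : Subgroup Ω} {Ω' : Type*} [Group Ω'] {S' : Subgroup Ω'}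
  {U' : Subgroup Ω'}

/-- A central factor system and a normal subsystem of it. -/
structure CSetup (p : ℕ) (F : FusionSystem S) (Z : Subgroup Ω) (θ : S →* Ω')
    (E : FusionSystem S') (N : FusionSystem U') : Prop where
  hS : IsPGroup p S
  hF : F.IsSaturated p
  cen : F.IsCentral Z
  fac : F.IsFactorSystem Z θ E
  normal : N.IsNormalIn E p

variable {p : ℕ} {F : FusionSystem S} {Z : Subgroup Ω} {θ : S →* Ω'} {E : FusionSystem S'}
  {N : FusionSystem U'} {P Q R : Subgroup Ω}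

/-- The map of a subgroup of `S` onto its image. -/
def toBar (θ : S →* Ω') (hP : P ≤ S) : P →* imageAlong θ P :=
  (θ.comp (Subgroup.inclusion hP)).codRestrict _
    fun x => mem_imageAlong.2 ⟨x, hP x.2, x.2, rfl⟩

theorem coe_toBar (hP : P ≤ S) (x : P) : (toBar θ hP x : Ω') = θ ⟨x, hP x.2⟩ := rfl

theorem toBar_surjective (hP : P ≤ S) : Function.Surjective (toBar θ hP) := by
  rintro ⟨y, hy⟩
  obtain ⟨x, hx, hxP, rfl⟩ := mem_imageAlong.1 hy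
  exact ⟨⟨x, hxP⟩, rfl⟩

/-- `b` is induced by `a`. -/
def Bar (θ : S →* Ω') (hP : P ≤ S) (a : MulAut P) (b : MulAut (imageAlong θ P)) : Prop :=
  ∀ x : P, b (toBar θ hP x) = toBar θ hP (a x)

theorem Bar.mul {hP : P ≤ S} {a a' : MulAut P} {b b' : MulAut (imageAlong θ P)}
    (h : Bar θ hP a b) (h' : Bar θ hP a' b') : Bar θ hP (a * a') (b * b') := fun x => by
  rw [MulAut.mul_apply, MulAut.mul_apply, h' x, h (a' x)]

theorem Bar.one (hP : P ≤ S) : Bar θ hP (1 : MulAut P) 1 := fun _ => rfl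

theorem Bar.inv {hP : P ≤ S} {a : MulAut P} {b : MulAut (imageAlong θ P)} (h : Bar θ hP a b) :
    Bar θ hP a⁻¹ b⁻¹ := fun x => by
  apply b.injective
  rw [MulAut.apply_inv_self, h (a⁻¹ x), MulAut.apply_inv_self]

theorem Bar.pow {hP : P ≤ S} {a : MulAut P} {b : MulAut (imageAlong θ P)} (h : Bar θ hP a b) :
    ∀ n : ℕ, Bar θ hP (a ^ n) (b ^ n)
  | 0 => by rw [pow_zero, pow_zero]; exact Bar.one hP
  | n + 1 => by rw [pow_succ, pow_succ]; exact (Bar.pow h n).mul h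

theorem Bar.unique {hP : P ≤ S} {a : MulAut P} {b b' : MulAut (imageAlong θ P)}
    (h : Bar θ hP a b) (h' : Bar θ hP a b') : b = b' := by
  apply MulEquiv.ext
  intro y
  obtain ⟨x, rfl⟩ := toBar_surjective hP y
  rw [h, h']

theorem Bar.conjAut (hP : P ≤ S) {g : Ω} (hg : g ∈ S) (hn : g ∈ Subgroup.normalizer (P : Set Ω))
    (hn' : θ ⟨g, hg⟩ ∈ Subgroup.normalizer ((imageAlong θ P : Subgroup Ω') : Set Ω')) :
    Bar θ hP (conjAut P hn) (Cfsg.Lib.FusionSys.conjAut (imageAlong θ P) hn') := fun x => by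
  apply Subtype.ext
  rw [coe_conjAut, coe_toBar, coe_toBar, ← map_inv, ← map_mul, ← map_mul]
  rfl

/-- The map `φ` of `F` is a lift of a map of `N`. -/
def NLift (θ : S →* Ω') (N : FusionSystem U') {P : Subgroup Ω} (φ : P →* Ω) : Prop :=
  ∃ ψ ∈ N.Hom (imageAlong θ P), InducedAlong θ φ ψ

theorem induced_conj {g : Ω} (hg : g ∈ S) (hP : P ≤ S) :
    InducedAlong θ (conjHom P g) (conjHom (imageAlong θ P) (θ ⟨g, hg⟩)) := by
  refine ⟨hP, fun x => S.mul_mem (S.mul_mem hg (hP x.2)) (S.inv_mem hg),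
    fun x => mem_imageAlong.2 ⟨x, hP x.2, x.2, rfl⟩, fun x => ?_⟩
  show θ ⟨g, hg⟩ * θ ⟨x, hP x.2⟩ * (θ ⟨g, hg⟩)⁻¹ = _
  rw [← map_inv, ← map_mul, ← map_mul]
  rfl

theorem imageAlong_range_le {φ : P →* Ω} {ψ : imageAlong θ P →* Ω'} (h : InducedAlong θ φ ψ) :
    ∀ y, ψ y ∈ imageAlong θ φ.range := by
  rintro ⟨y, hy⟩
  obtain ⟨hP, hφ, hP', he⟩ := h
  obtain ⟨x, hx, hxP, rfl⟩ := mem_imageAlong.1 hy
  refine mem_imageAlong.2 ⟨φ ⟨x, hxP⟩, hφ _, ⟨_, rfl⟩, ?_⟩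
  exact (he ⟨x, hxP⟩).symm

theorem imageAlong_range_eq {φ : P →* Ω} {ψ : imageAlong θ P →* Ω'} (h : InducedAlong θ φ ψ) :
    ψ.range = imageAlong θ φ.range := by
  refine le_antisymm (by rintro _ ⟨y, rfl⟩; exact imageAlong_range_le h y) fun y hy => ?_
  obtain ⟨hP, hφ, hP', he⟩ := h
  obtain ⟨z, hz, ⟨x, rfl⟩, rfl⟩ := mem_imageAlong.1 hy
  exact ⟨⟨_, hP' x⟩, he x⟩

/-- The subsystem over the preimage of `U'` of all maps of `F` that lift maps of `N`. -/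
def preSystem (θ : S →* Ω') (F : FusionSystem S) (N : FusionSystem U') :
    FusionSystem (preimageAlong θ U') where
  Hom P := {φ | φ ∈ F.Hom P ∧ NLift θ N φ}
  le_of_mem := by
    rintro P φ ⟨hφ, ψ, hψ, hind⟩
    have hP := hom_le hφ
    refine ⟨fun x hx => mem_preimageAlong.2 ⟨hP hx, hom_le hψ ?_⟩, fun x =>
      mem_preimageAlong.2 ⟨hom_mem hφ x, ?_⟩⟩
    · exact mem_imageAlong.2 ⟨x, hP hx, hx, rfl⟩
    · rw [← inducedAlong_apply hind (x := x) (hxS := hP x.2) (hx' := hom_mem hφ x)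
        (y := ⟨θ ⟨x, hP x.2⟩, mem_imageAlong.2 ⟨x, hP x.2, x.2, rfl⟩⟩) rfl]
      exact hom_mem hψ _
  injective_of_mem h := F.injective_of_mem h.1
  conj_mem := by
    intro P g hP hg
    obtain ⟨hgS, hgU⟩ := mem_preimageAlong.1 hg
    refine ⟨F.conj_mem (hP.trans preimageAlong_le) hgS, _, N.conj_mem ?_ hgU,
      induced_conj hgS (hP.trans preimageAlong_le)⟩
    rintro y hy
    obtain ⟨x, hx, hxP, rfl⟩ := mem_imageAlong.1 hy
    exact (mem_preimageAlong.1 (hP hxP)).2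
  comp_mem := by
    rintro P Q φ ψ ⟨hφ, φ', hφ', hi⟩ ⟨hψ, ψ', hψ', hj⟩ hv
    have hv' : ∀ y, φ' y ∈ imageAlong θ Q := fun y => by
      obtain ⟨z, hz, ⟨x, hx⟩, he⟩ := mem_imageAlong.1 (imageAlong_range_le hi y)
      exact mem_imageAlong.2 ⟨z, hz, hx ▸ hv x, he⟩
    refine ⟨F.comp_mem hφ hψ hv, _, N.comp_mem hφ' hψ' hv', hom_le hφ,
      fun x => hom_mem hψ _, fun x => mem_imageAlong.2 ⟨x, hom_le hφ x.2, x.2, rfl⟩, fun x => ?_⟩
    exact inducedAlong_apply hj (inducedAlong_apply hi rfl (hx' := hom_mem hφ x))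
  inv_mem := by
    rintro P φ ⟨hφ, φ', hφ', hi⟩
    obtain ⟨χ, hχ, hχe⟩ := F.inv_mem hφ
    obtain ⟨χ', hχ', -, hχ'e⟩ := exists_inv hφ' (imageAlong_range_eq hi)
    refine ⟨χ, ⟨hχ, χ', hχ', hom_le hχ, hom_mem hχ,
      fun x => mem_imageAlong.2 ⟨x, hom_le hχ x.2, x.2, rfl⟩, ?_⟩, hχe⟩
    rintro ⟨_, x, rfl⟩
    have hPS := hom_le hφ
    have h1 : φ' ⟨θ ⟨x, hPS x.2⟩, mem_imageAlong.2 ⟨x, hPS x.2, x.2, rfl⟩⟩ =
        θ ⟨φ x, hom_mem hφ x⟩ := inducedAlong_apply hi rfl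
    have h2 := hχ'e ⟨θ ⟨x, hPS x.2⟩, mem_imageAlong.2 ⟨x, hPS x.2, x.2, rfl⟩⟩
      (by rw [h1]; exact mem_imageAlong.2 ⟨φ x, hom_mem hφ x, ⟨x, rfl⟩, rfl⟩)
    refine ((congrArg χ' (Subtype.ext h1.symm)).trans h2).trans ?_
    exact congrArg θ (Subtype.ext (hχe x).symm)

/-- The kernel of the passage to the image. -/
def kerAut (F : FusionSystem S) (Z : Subgroup Ω) (P : Subgroup Ω) : Subgroup (MulAut P) where
  carrier := {a | a ∈ F.autGroup P ∧ ∀ x : P, (x : Ω)⁻¹ * (a x : Ω) ∈ Z}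
  one_mem' := ⟨one_mem _, fun x => by simp⟩
  mul_mem' := by
    rintro a b ⟨ha, ha'⟩ ⟨hb, hb'⟩
    refine ⟨mul_mem ha hb, fun x => ?_⟩
    have h1 := Z.mul_mem (hb' x) (ha' (b x))
    rwa [mul_assoc, mul_inv_cancel_left] at h1
  inv_mem' := by
    rintro a ⟨ha, ha'⟩
    refine ⟨inv_mem ha, fun x => ?_⟩
    have h1 := Z.inv_mem (ha' (a⁻¹ x))
    rwa [MulAut.apply_inv_self, mul_inv_rev, inv_inv] at h1

section

variable (h : CSetup p F Z θ E N)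
include h

theorem zle : Z ≤ S := h.cen.1

theorem hker (s : S) : θ s = 1 ↔ (s : Ω) ∈ Z := h.fac.2.1 s

theorem hrange : θ.range = S' := h.fac.2.2.1

theorem u_le : U' ≤ S' := h.normal.1.2.2.2.1.1

theorem u_le_range : U' ≤ θ.range := (u_le h).trans (hrange h).ge

theorem fix [Finite S] [Fact p.Prime] {z y : Ω} (hz : z ∈ Z) (hy : F.IsConjElt z y) : y = z :=
  ((isCentral_iff h.hS h.hF Z).1 h.cen).2 z hz y hy

theorem hom_fix [Finite S] [Fact p.Prime] {φ : P →* Ω} (hφ : φ ∈ F.Hom P) (x : P)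
    (hx : (x : Ω) ∈ Z) : φ x = x :=
  fix h hx ⟨_, restrict_mem hφ (Subgroup.zpowers_le.2 x.2), rfl⟩

theorem z_comm [Finite S] [Fact p.Prime] {z s : Ω} (hz : z ∈ Z) (hs : s ∈ S) : s * z = z * s :=
  commute_of_conj_eq (fix h hz ⟨conjHom _ s, F.conj_mem (Subgroup.zpowers_le.2 (zle h hz)) hs, rfl⟩)

theorem zclosed [Finite S] [Fact p.Prime] : F.StronglyClosed Z :=
  ⟨zle h, fun R hR φ hφ x => by rw [hom_fix h hφ x (hR x.2)]; exact hR x.2⟩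

theorem esat [Finite S] [Fact p.Prime] : E.IsSaturated p := h.normal.1.2.1

theorem eS' [Fact p.Prime] : IsPGroup p S' :=
  hrange h ▸ IsPGroup.of_surjective h.hS θ.rangeRestrict θ.rangeRestrict_surjective

theorem efinite [Finite S] : Finite S' :=
  hrange h ▸ Finite.of_surjective θ.rangeRestrict θ.rangeRestrict_surjective

theorem pre_le : preimageAlong θ U' ≤ S := preimageAlong_le

theorem z_le_pre : Z ≤ preimageAlong θ U' := kernel_le_preimageAlong (zle h) (hker h)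

theorem pre_closed [Finite S] [Fact p.Prime] : F.StronglyClosed (preimageAlong θ U') :=
  stronglyClosed_preimage' h.hS h.hF (zclosed h) h.fac h.normal.1.2.2.2.1

theorem pre_image (hP : P ≤ S) [Finite S] [Fact p.Prime] (hZ : Z ≤ P) :
    preimageAlong θ (imageAlong θ P) = P := by
  rw [preimageAlong_imageAlong (zclosed h) (hker h) hP, sup_eq_left.2 hZ]

theorem image_le (hP : P ≤ preimageAlong θ U') : imageAlong θ P ≤ U' := by
  intro y hy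
  obtain ⟨x, hx, hxP, rfl⟩ := mem_imageAlong.1 hy
  exact (mem_preimageAlong.1 (hP hxP)).2

theorem toBar_eq_iff {hP : P ≤ S} (x y : P) :
    toBar θ hP x = toBar θ hP y ↔ (x : Ω)⁻¹ * y ∈ Z := by
  rw [Subtype.ext_iff, coe_toBar, coe_toBar, ← inv_mul_eq_one, ← map_inv, ← map_mul, hker h]
  rfl

theorem mem_morphism [Finite S] [Fact p.Prime] {φ : P →* Ω} (hφ : φ ∈ F.Hom P) :
    ∃ φ' ∈ E.Hom (imageAlong θ P), InducedAlong θ φ φ' :=
  (isSurjectiveMorphism_of_isFactorSystem h.hS h.hF (zclosed h) h.fac).1.2 P φ hφ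

theorem exists_bar [Finite S] [Fact p.Prime] {hP : P ≤ S} {a : MulAut P} (ha : a ∈ F.autGroup P) :
    ∃ b ∈ E.autGroup (imageAlong θ P), Bar θ hP a b := by
  haveI := efinite h
  obtain ⟨φ', hφ', hi⟩ := mem_morphism h ((mem_autGroup hP).1 ha)
  have hv : ∀ y, φ' y ∈ imageAlong θ P := fun y => by
    obtain ⟨z, hz, ⟨x, hx⟩, he⟩ := mem_imageAlong.1 (imageAlong_range_le hi y)
    exact mem_imageAlong.2 ⟨z, hz, hx ▸ (a x).2, he⟩
  obtain ⟨b, hb, hbe⟩ := exists_aut_of_hom hφ' hv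
  exact ⟨b, hb, fun x => Subtype.ext ((hbe _).trans (inducedAlong_apply hi rfl))⟩

/-- An automorphism lifts an automorphism of `N` exactly when it induces one. -/
theorem mem_pre_autGroup_iff [Finite S] [Fact p.Prime] (hPU : P ≤ preimageAlong θ U')
    {a : MulAut P} :
    a ∈ (preSystem θ F N).autGroup P ↔ a ∈ F.autGroup P ∧
      ∃ b ∈ N.autGroup (imageAlong θ P), Bar θ (hPU.trans preimageAlong_le) a b := by
  have hP : P ≤ S := hPU.trans preimageAlong_le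
  have hP' : imageAlong θ P ≤ U' := image_le h hPU
  rw [mem_autGroup hPU, mem_autGroup hP]
  constructor
  · rintro ⟨hφ, ψ, hψ, hi⟩
    haveI := efinite h
    haveI := finite_of_le (u_le h)
    have hv : ∀ y, ψ y ∈ imageAlong θ P := fun y => by
      obtain ⟨z, hz, ⟨x, hx⟩, he⟩ := mem_imageAlong.1 (imageAlong_range_le hi y)
      exact mem_imageAlong.2 ⟨z, hz, hx ▸ (a x).2, he⟩
    obtain ⟨b, hb, hbe⟩ := exists_aut_of_hom hψ hv
    exact ⟨hφ, b, hb, fun x => Subtype.ext ((hbe _).trans (inducedAlong_apply hi rfl))⟩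
  · rintro ⟨hφ, b, hb, he⟩
    exact ⟨hφ, _, (mem_autGroup hP').1 hb, hP, fun x => hP (a x).2,
      fun x => (toBar θ hP x).2, fun x => congrArg Subtype.val (he x)⟩

theorem kerAut_le_pre [Finite S] [Fact p.Prime] (hPU : P ≤ preimageAlong θ U') :
    kerAut F Z P ≤ (preSystem θ F N).autGroup P := by
  rintro a ⟨ha, ha'⟩
  refine (mem_pre_autGroup_iff h hPU).2 ⟨ha, 1, one_mem _, fun x => ?_⟩
  exact (toBar_eq_iff h x (a x)).2 (ha' x)

theorem mem_kerAut_iff_bar [Finite S] [Fact p.Prime] {hP : P ≤ S} {a : MulAut P}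
    (ha : a ∈ F.autGroup P) {b : MulAut (imageAlong θ P)} (hb : Bar θ hP a b) :
    a ∈ kerAut F Z P ↔ b = 1 := by
  constructor
  · rintro ⟨-, ha'⟩
    exact hb.unique fun x => (toBar_eq_iff h x (a x)).2 (ha' x)
  · rintro rfl
    exact ⟨ha, fun x => (toBar_eq_iff h x (a x)).1 (hb x)⟩

theorem kerAut_conj [Finite S] [Fact p.Prime] {hP : P ≤ S} {g a : MulAut P}
    (hg : g ∈ F.autGroup P) (ha : a ∈ kerAut F Z P) : g * a * g⁻¹ ∈ kerAut F Z P := by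
  obtain ⟨b, -, hb⟩ := exists_bar h (hP := hP) hg
  obtain ⟨c, -, hc⟩ := exists_bar h (hP := hP) ha.1
  refine (mem_kerAut_iff_bar h (mul_mem (mul_mem hg ha.1) (inv_mem hg))
    ((hb.mul hc).mul hb.inv)).2 ?_
  rw [(mem_kerAut_iff_bar h ha.1 hc).1 ha, mul_one, mul_inv_cancel]

theorem kerAut_pow_apply [Finite S] [Fact p.Prime] {hP : P ≤ S} {a : MulAut P}
    (ha : a ∈ kerAut F Z P) (n : ℕ) (x : P) :
    (((a ^ n) x : P) : Ω) = (x : Ω) * ((x : Ω)⁻¹ * (a x : Ω)) ^ n := by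
  induction n with
  | zero => simp
  | succ n ih =>
    have hz := ha.2 x
    have hm : ((x : Ω)⁻¹ * (a x : Ω)) ^ n ∈ P := pow_mem (mul_mem (inv_mem x.2) (a x).2) n
    have hfx : ((a ⟨_, hm⟩ : P) : Ω) = ((x : Ω)⁻¹ * (a x : Ω)) ^ n :=
      hom_fix h ((mem_autGroup hP).1 ha.1) ⟨_, hm⟩ (pow_mem hz n)
    rw [pow_succ', MulAut.mul_apply,
      show (a ^ n) x = x * ⟨_, hm⟩ from Subtype.ext ih, map_mul, Subgroup.coe_mul, hfx, pow_succ',
      ← mul_assoc, mul_inv_cancel_left]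

theorem kerAut_comm [Finite S] [Fact p.Prime] {hP : P ≤ S} {a b : MulAut P}
    (ha : a ∈ kerAut F Z P) (hb : b ∈ kerAut F Z P) : a * b = b * a := by
  refine MulEquiv.ext fun x => Subtype.ext ?_
  have hwa : ∀ y : P, (y : Ω)⁻¹ * (a y : Ω) ∈ P := fun y => mul_mem (inv_mem y.2) (a y).2
  have hwb : ∀ y : P, (y : Ω)⁻¹ * (b y : Ω) ∈ P := fun y => mul_mem (inv_mem y.2) (b y).2
  have e1 : ((a (b x) : P) : Ω) = (x : Ω) * ((x : Ω)⁻¹ * a x) * ((x : Ω)⁻¹ * b x) := by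
    conv_lhs => rw [show b x = x * ⟨_, hwb x⟩ from Subtype.ext (mul_inv_cancel_left _ _).symm]
    rw [map_mul, Subgroup.coe_mul, mul_inv_cancel_left]
    exact congrArg _ (hom_fix h ((mem_autGroup hP).1 ha.1) ⟨_, hwb x⟩ (hb.2 x))
  have e2 : ((b (a x) : P) : Ω) = (x : Ω) * ((x : Ω)⁻¹ * b x) * ((x : Ω)⁻¹ * a x) := by
    conv_lhs => rw [show a x = x * ⟨_, hwa x⟩ from Subtype.ext (mul_inv_cancel_left _ _).symm]
    rw [map_mul, Subgroup.coe_mul, mul_inv_cancel_left]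
    exact congrArg _ (hom_fix h ((mem_autGroup hP).1 hb.1) ⟨_, hwa x⟩ (ha.2 x))
  show ((a (b x) : P) : Ω) = ((b (a x) : P) : Ω)
  rw [e1, e2, mul_assoc (x : Ω) _ ((x : Ω)⁻¹ * b x), mul_assoc (x : Ω) _ ((x : Ω)⁻¹ * a x),
    z_comm h (hb.2 x) (zle h (ha.2 x))]

theorem isPGroup_kerAut [Finite S] [Fact p.Prime] (hP : P ≤ S) :
    IsPGroup p (kerAut F Z P) := by
  rintro ⟨a, ha⟩
  obtain ⟨k, hk⟩ := IsPGroup.iff_card.1 h.hS
  refine ⟨k, Subtype.ext (MulEquiv.ext fun x => Subtype.ext ?_)⟩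
  have h1 : ((⟨_, zle h (ha.2 x)⟩ : S) ^ p ^ k) = 1 := by rw [← hk]; exact pow_card_eq_one'
  show (((a ^ p ^ k) x : P) : Ω) = (x : Ω)
  rw [kerAut_pow_apply h (hP := hP) ha]
  have h2 : ((x : Ω)⁻¹ * (a x : Ω)) ^ p ^ k = 1 := congrArg Subtype.val h1
  rw [h2, mul_one]

/-- The lifts form a strongly invariant subsystem. -/
theorem pre_strongInv [Finite S] [Fact p.Prime] :
    StrongInv F (preSystem θ F N) := by
  rintro P Q hPQ hQU φ ⟨hφ, φ', hφ', hi⟩ hv ψ hψ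
  obtain ⟨ψ', hψ', hj⟩ := mem_morphism h hψ
  have hQS := hom_le hψ
  have hPS := hPQ.trans hQS
  have hPQ' : imageAlong θ P ≤ imageAlong θ Q := Subgroup.map_mono fun _ hx => hPQ hx
  have hv' : ∀ y, φ' y ∈ imageAlong θ Q := fun y => by
    obtain ⟨z, hz, ⟨x, hx⟩, he⟩ := mem_imageAlong.1 (imageAlong_range_le hi y)
    exact mem_imageAlong.2 ⟨z, hz, hx ▸ hv x, he⟩
  obtain ⟨χ', hχ', hχ'e⟩ := isInvariant_strongInv h.normal.1.2.2 _ _ hPQ'
    (image_le h hQU) φ' hφ' hv' ψ' hψ'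
  obtain ⟨ρ, hρ, hρr, hρe⟩ := exists_inv (restrict_mem hψ hPQ) (rfl : _ = _)
  have hρP : ∀ y, ρ y ∈ P := fun y => hρr.le ⟨y, rfl⟩
  have h2 := F.comp_mem (F.comp_mem hρ hφ hρP) hψ fun y => hv _
  have heq : (P.subgroupOf Q).map ψ = (ψ.comp (Subgroup.inclusion hPQ)).range := by
    ext y
    rw [mem_map_subgroupOf]
    exact ⟨fun ⟨x, _, hxP, he⟩ => ⟨⟨x, hxP⟩, he⟩, fun ⟨x, he⟩ => ⟨x, hPQ x.2, x.2, he⟩⟩
  obtain ⟨χ, hχF, hχ⟩ : ∃ χ ∈ F.Hom ((P.subgroupOf Q).map ψ), ∀ (x : P) hx,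
      χ ⟨ψ (Subgroup.inclusion hPQ x), hx⟩ = ψ ⟨φ x, hv x⟩ := by
    refine ⟨_, restrict_mem h2 heq.le, fun x hx => ?_⟩
    exact congrArg ψ (Subtype.ext (congrArg φ (Subtype.ext (hρe x ⟨x, rfl⟩))))
  refine ⟨χ, ⟨hχF, ?_⟩, fun x hx => hχ x hx⟩
  have himg : ((imageAlong θ P).subgroupOf (imageAlong θ Q)).map ψ' =
      imageAlong θ ((P.subgroupOf Q).map ψ) := by
    ext y
    rw [mem_map_subgroupOf, mem_imageAlong]
    constructor
    · rintro ⟨w, hw, hwP, rfl⟩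
      obtain ⟨x, hxS, hxP, rfl⟩ := mem_imageAlong.1 hwP
      refine ⟨ψ ⟨x, hPQ hxP⟩, hom_mem hψ _, ⟨⟨x, hPQ hxP⟩, hxP, rfl⟩, ?_⟩
      exact (inducedAlong_apply hj (x := ⟨x, hPQ hxP⟩) rfl).symm
    · rintro ⟨z, hz, ⟨⟨x, hxQ⟩, hxP, rfl⟩, rfl⟩
      exact ⟨θ ⟨x, hQS hxQ⟩, mem_imageAlong.2 ⟨x, hQS hxQ, hxQ, rfl⟩,
        mem_imageAlong.2 ⟨x, hQS hxQ, hxP, rfl⟩, inducedAlong_apply hj (x := ⟨x, hxQ⟩) rfl⟩
  refine ⟨_, restrict_mem hχ' himg.ge, hom_le hχF, hom_mem hχF,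
    fun z => mem_imageAlong.2 ⟨z, hom_le hχF z.2, z.2, rfl⟩, fun z => ?_⟩
  obtain ⟨⟨x, hxQ⟩, hxP, hzx⟩ := z.2
  let x' : P := ⟨x, hxP⟩
  have hxm : ψ (Subgroup.inclusion hPQ x') ∈ (P.subgroupOf Q).map ψ :=
    ⟨⟨x, hxQ⟩, hxP, rfl⟩
  have hzeq : z = ⟨ψ (Subgroup.inclusion hPQ x'), hxm⟩ := Subtype.ext hzx.symm
  have hy : θ ⟨x, hPS hxP⟩ ∈ imageAlong θ P := mem_imageAlong.2 ⟨x, hPS hxP, hxP, rfl⟩
  have e1 : (ψ' (Subgroup.inclusion hPQ' ⟨_, hy⟩) : Ω') =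
      θ ⟨ψ (Subgroup.inclusion hPQ x'), hom_mem hψ _⟩ := inducedAlong_apply hj rfl
  have e2 : φ' ⟨_, hy⟩ = θ ⟨φ x', hom_mem hφ _⟩ := inducedAlong_apply hi rfl
  have e3 : (ψ' ⟨φ' ⟨_, hy⟩, hv' _⟩ : Ω') = θ ⟨ψ ⟨φ x', hv x'⟩, hom_mem hψ _⟩ :=
    inducedAlong_apply hj e2
  subst hzeq
  refine Eq.trans ?_ ((hχ'e ⟨_, hy⟩ (himg.ge (mem_imageAlong.2
    ⟨_, hom_mem hψ _, hxm, e1.symm⟩))).trans ?_)
  · exact congrArg χ' (Subtype.ext e1.symm)
  · rw [e3]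
    exact congrArg θ (Subtype.ext (hχ x' hxm).symm)

/-- Transport of lifting automorphisms along the isomorphisms of `F`. -/
theorem pre_congr [Finite S] [Fact p.Prime] {e : P ≃* Q} (he : IsoIn F e)
    (hP : P ≤ preimageAlong θ U') (hQ : Q ≤ preimageAlong θ U') {a : MulAut P}
    (ha : a ∈ (preSystem θ F N).autGroup P) :
    MulAut.congr e a ∈ (preSystem θ F N).autGroup Q := by
  obtain ⟨χ, hχ, hχe⟩ := pre_strongInv h P P le_rfl hP _ ((mem_autGroup hP).1 ha)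
    (fun x => (a x).2) _ he
  have hmap : (P.subgroupOf P).map (Q.subtype.comp e.toMonoidHom) = Q := by
    ext y
    exact ⟨fun ⟨x, _, hx⟩ => hx ▸ (e x).2,
      fun hy => ⟨e.symm ⟨y, hy⟩, (e.symm ⟨y, hy⟩).2, by simp⟩⟩
  refine (mem_autGroup hQ).2 (hom_congr (restrict_mem hχ hmap.ge) fun y => ?_)
  obtain ⟨x, rfl⟩ := e.surjective y
  refine Eq.trans ?_ (hχe x (hmap.ge (e x).2)).symm
  show ((e (a (e.symm (e x))) : Q) : Ω) = _
  rw [MulEquiv.symm_apply_apply]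
  rfl

theorem kerAut_congr [Finite S] [Fact p.Prime] {e : P ≃* Q} (he : IsoIn F e) {hP : P ≤ S}
    {hQ : Q ≤ S} {a : MulAut P} (ha : a ∈ kerAut F Z P) : MulAut.congr e a ∈ kerAut F Z Q := by
  refine ⟨congr_mem_autGroup he ha.1, fun y => ?_⟩
  obtain ⟨x, rfl⟩ := e.surjective y
  have hz := ha.2 x
  have hw : (x : Ω)⁻¹ * (a x : Ω) ∈ P := mul_mem (inv_mem x.2) (a x).2
  have h1 : ((e ⟨_, hw⟩ : Q) : Ω) = (x : Ω)⁻¹ * (a x : Ω) := hom_fix h he ⟨_, hw⟩ hz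
  show (e x : Ω)⁻¹ * ((e (a (e.symm (e x))) : Q) : Ω) ∈ Z
  rw [MulEquiv.symm_apply_apply, ← Subgroup.coe_inv, ← Subgroup.coe_mul, ← map_inv, ← map_mul,
    show x⁻¹ * a x = ⟨_, hw⟩ from rfl, h1]
  exact hz

end

end Cfsg.Lib.FusionSys.CentralLift
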