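import Cfsg.Agent.Lib.FusionSys.CentralLift.Commutator

/-!
A homomorphism from the lifting automorphisms to a `p`-group separating the kernel from the induced
automorphisms.
-/

set_option autoImplicit false
set_option linter.style.haveILetI false

namespace Cfsg.Lib.FusionSys.CentralLift

open Cfsg Cfsg.FusionSystem Cfsg.Lib.FusionSys
open scoped Pointwise

theorem transfer_eq_pow_fusion {G A : Type*} [Group G] [Finite G] [CommGroup A] {H : Subgroup G}
    (φ : ↥H →* A)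
    (hinv : ∀ (v : ↥H) (g : G) (h : g⁻¹ * (v : G) * g ∈ H), φ ⟨g⁻¹ * (v : G) * g, h⟩ = φ v) (u : ↥H) :
    MonoidHom.transfer φ (u : G) = φ u ^ H.index := by
  classical
  letI := H.fintypeQuotientOfFiniteIndex
  rw [MonoidHom.transfer_eq_prod_quotient_orbitRel_zpowers_quot,
    Subgroup.index_eq_sum_minimalPeriod H (u : G), ← Finset.prod_pow_eq_pow_sum]
  refine Finset.prod_congr rfl fun q _ => ?_
  rw [← map_pow]
  exact hinv (u ^ Function.minimalPeriod ((u : G) • ·) q.out) q.out.out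
    (QuotientGroup.out_conj_pow_minimalPeriod_mem H (u : G) q.out)

/-- A weakly closed normal part with abelian central complement is cut out by a normal subgroup. -/
theorem exists_transfer_kernel {p : ℕ} [Fact p.Prime] {G : Type*} [Group G] [Finite G] (P : Sylow p G)
    (C K : Subgroup G) [K.Normal] (hCP : C ≤ P) (hKP : K ≤ P)
    (hdec : ∀ x ∈ (P : Subgroup G), ∃ c ∈ C, ∃ k ∈ K, x = c * k)
    (hcomm : ∀ a ∈ K, ∀ b ∈ K, a * b = b * a)
    (hclosed : ∀ g : G, ∀ c ∈ C, g * c * g⁻¹ ∈ (P : Subgroup G) → g * c * g⁻¹ ∈ C)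
    (hcent : ∀ g : G, ∀ k ∈ K, k⁻¹ * (g * k * g⁻¹) ∈ C) :
    ∃ B : Subgroup G, B.Normal ∧ C ≤ B ∧ (∀ x : G, (orderOf x).Coprime p → x ∈ B) ∧
      B ⊓ P ≤ C := by
  have hn : (C.subgroupOf P).Normal := ⟨fun c hc g =>
    hclosed g c hc ((P : Subgroup G).mul_mem ((P : Subgroup G).mul_mem g.2 c.2) ((P : Subgroup G).inv_mem g.2))⟩
  haveI := hn
  let π := QuotientGroup.mk' (C.subgroupOf (P : Subgroup G))
  have hπ : ∀ (x : (P : Subgroup G)) (c k : G) (hc : c ∈ C) (hk : k ∈ K), (x : G) = c * k →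
      π x = π ⟨k, hKP hk⟩ := fun x c k hc hk he => by
    rw [show x = (⟨c, hCP hc⟩ : (P : Subgroup G)) * ⟨k, hKP hk⟩ from Subtype.ext he, map_mul]
    exact (congrArg (· * π ⟨k, hKP hk⟩) ((QuotientGroup.eq_one_iff _).2 hc)).trans (one_mul _)
  letI : CommGroup ((P : Subgroup G) ⧸ C.subgroupOf (P : Subgroup G)) :=
    { (inferInstance : Group ((P : Subgroup G) ⧸ C.subgroupOf (P : Subgroup G))) with
      mul_comm := fun a b => by
        obtain ⟨x, rfl⟩ := QuotientGroup.mk'_surjective _ a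
        obtain ⟨y, rfl⟩ := QuotientGroup.mk'_surjective _ b
        obtain ⟨c, hc, k, hk, hx⟩ := hdec x x.2
        obtain ⟨c', hc', k', hk', hy⟩ := hdec y y.2
        show π x * π y = π y * π x
        rw [hπ x c k hc hk hx, hπ y c' k' hc' hk' hy, ← map_mul, ← map_mul]
        exact congrArg π (Subtype.ext (hcomm k hk k' hk')) }
  have hinv : ∀ (v : (P : Subgroup G)) (g : G) (hg : g⁻¹ * (v : G) * g ∈ (P : Subgroup G)),
      π ⟨g⁻¹ * (v : G) * g, hg⟩ = π v := by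
    intro v g hg
    obtain ⟨c, hc, k, hk, hv⟩ := hdec v v.2
    have hk' : g⁻¹ * k * g ∈ K := by
      simpa using (inferInstance : K.Normal).conj_mem k hk g⁻¹
    have e : g⁻¹ * (v : G) * g = g⁻¹ * c * g * (g⁻¹ * k * g) := by rw [hv]; group
    have hc' : g⁻¹ * c * g ∈ C := by
      have h1 := hclosed g⁻¹ c hc
      rw [inv_inv] at h1
      refine h1 ?_
      have := (P : Subgroup G).mul_mem hg ((P : Subgroup G).inv_mem (hKP hk'))
      rwa [e, mul_inv_cancel_right] at this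
    rw [hπ ⟨g⁻¹ * (v : G) * g, hg⟩ _ _ hc' hk' e, hπ v c k hc hk hv]
    refine ((QuotientGroup.eq (s := C.subgroupOf (P : Subgroup G))).2 ?_).symm
    have := hcent g⁻¹ k hk
    rwa [inv_inv] at this
  let v := MonoidHom.transfer π
  have hV : IsPGroup p ((P : Subgroup G) ⧸ C.subgroupOf (P : Subgroup G)) :=
    P.isPGroup'.to_quotient _
  have hcop : ∀ m : ℕ, m.Coprime p → ∀ y : (P : Subgroup G) ⧸ C.subgroupOf (P : Subgroup G),
      y ^ m = 1 → y = 1 := fun m hm y hy => by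
    obtain ⟨e, he⟩ := hV y
    exact orderOf_eq_one_iff.1 (Nat.eq_one_of_dvd_coprimes (hm.pow_right e)
      (orderOf_dvd_of_pow_eq_one hy) (orderOf_dvd_of_pow_eq_one he))
  refine ⟨v.ker, inferInstance, fun c hc => ?_, fun x hx => ?_, fun x hx => ?_⟩
  · refine MonoidHom.mem_ker.2 ((transfer_eq_pow_fusion π hinv ⟨c, hCP hc⟩).trans ?_)
    rw [show π ⟨c, hCP hc⟩ = 1 from (QuotientGroup.eq_one_iff _).2 hc, one_pow]
  · refine MonoidHom.mem_ker.2 (hcop _ hx (v x) ?_)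
    rw [← map_pow, pow_orderOf_eq_one, map_one]
  · obtain ⟨hx1, hx2⟩ := hx
    have h1 := (transfer_eq_pow_fusion π hinv ⟨x, hx2⟩).symm.trans (MonoidHom.mem_ker.1 hx1)
    exact (QuotientGroup.eq_one_iff (N := C.subgroupOf (P : Subgroup G)) ⟨x, hx2⟩).1
      (hcop _ ((Fact.out : p.Prime).coprime_iff_not_dvd.2 P.not_dvd_index).symm _ h1)

variable {Ω : Type*} [Group Ω] {S : Subgroup Ω} {Ω' : Type*} [Group Ω'] {S' : Subgroup Ω'}
  {U' : Subgroup Ω'} {p : ℕ} {F : FusionSystem S} {Z : Subgroup Ω} {θ : S →* Ω'}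
  {E : FusionSystem S'} {N : FusionSystem U'} {P Q R : Subgroup Ω}

/-- A subgroup of lifting automorphisms separating the kernel. -/
structure KerData (θ : S →* Ω') (Z : Subgroup Ω) (p : ℕ) (F : FusionSystem S) (N : FusionSystem U')
    (Q : Subgroup Ω) (B : Subgroup (MulAut Q)) : Prop where
  coprime : ∀ a ∈ (preSystem θ F N).autGroup Q, (orderOf a).Coprime p → a ∈ B
  induced : autInducedBy (preimageAlong θ U') Q ≤ B
  conj : ∀ g ∈ (preSystem θ F N).autGroup Q, ∀ b ∈ B, g * b * g⁻¹ ∈ B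
  ker_inn : ∀ k ∈ kerAut F Z Q, k ∈ B → k ∈ Cfsg.Inn Q
  sylow : ∀ X : Subgroup (MulAut Q), IsPGroup p X → X ≤ (preSystem θ F N).autGroup Q → X ≤ B →
    ∃ g ∈ (preSystem θ F N).autGroup Q, ∀ x ∈ X,
      g * x * g⁻¹ ∈ autInducedBy (preimageAlong θ U') Q

/-- Any homomorphism into the lifts carrying a Sylow subgroup into `B` lands in `B`. -/
theorem KerData.map_mem [Fact p.Prime] {B : Subgroup (MulAut Q)} (hB : KerData θ Z p F N Q B)
    {G : Type*} [Group G] [Finite G] (f : G →* MulAut Q)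
    (hf : ∀ x, f x ∈ (preSystem θ F N).autGroup Q) (W : Sylow p G) (hW : ∀ x ∈ W, f x ∈ B) (x : G) :
    f x ∈ B := by
  have h : (⊤ : Subgroup G) ≤ B.comap f := by
    rw [← sylow_sup_pPrime_eq_top W]
    refine sup_le hW ((Subgroup.closure_le _).2 fun y hy => ?_)
    exact hB.coprime _ (hf y) (Nat.Coprime.coprime_dvd_left (orderOf_map_dvd f y) hy)
  exact h (Subgroup.mem_top x)

section

variable (h : CSetup p F Z θ E N)
include h

theorem inn_le_induced (hQ : InFamily θ Z N Q) :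
    Cfsg.Inn Q ≤ autInducedBy (preimageAlong θ U') Q :=
  inn_le_autInducedBy hQ.2.1

/-- Induced automorphisms stay induced under conjugation as long as their images do. -/
theorem induced_closed [Finite S] [Fact p.Prime] (hQ : InFamily θ Z N Q)
    {g c : MulAut Q} (hg : g ∈ (preSystem θ F N).autGroup Q)
    (hc : c ∈ autInducedBy (preimageAlong θ U') Q) {b : MulAut (imageAlong θ Q)}
    (hb : Bar θ (hQ.2.1.trans preimageAlong_le) (g * c * g⁻¹) b)
    (hbU : b ∈ autInducedBy U' (imageAlong θ Q)) :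
    g * c * g⁻¹ ∈ autInducedBy (preimageAlong θ U') Q := by
  haveI := efinite h
  haveI := ufinite h
  obtain ⟨hZ, hQU, hcen⟩ := id hQ
  have hQS : Q ≤ S := hQU.trans preimageAlong_le
  obtain ⟨u, hu, hue⟩ := mem_autInducedBy.1 hc
  have hun := mem_normalizer_of_aut hue
  have hce : c = conjAut Q hun := MulEquiv.ext fun y => Subtype.ext (hue y)
  obtain ⟨huS, hu'⟩ := mem_preimageAlong.1 hu
  have hun' : θ ⟨u, huS⟩ ∈ Subgroup.normalizer ((imageAlong θ Q : Subgroup Ω') : Set Ω') :=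
    (image_normalizer h hQS hZ ⟨u, huS⟩).2 hun
  have hQ'U := image_le h hQU
  obtain ⟨-, bg, hbg, hgbar⟩ := (mem_pre_autGroup_iff h hQU).1 hg
  -- the image extends in `N`
  have hbr : ((imageAlong θ Q).subtype.comp bg.toMonoidHom).range = imageAlong θ Q := by
    ext y
    exact ⟨fun ⟨z, hz⟩ => hz ▸ (bg z).2, fun hy => ⟨bg⁻¹ ⟨y, hy⟩, by simp⟩⟩
  obtain ⟨χ, hχ, hχe⟩ := (isReceptive_of_fc (uP h) h.normal.1.1
    (isFullyCentralized_of_isCentric hcen)).2 _ _ ((mem_autGroup hQ'U).1 hbg) hbr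
  set D' := extender U' (imageAlong θ Q) ((imageAlong θ Q).subtype.comp bg.toMonoidHom) with hD'
  have huD : θ ⟨u, huS⟩ ∈ D' := by
    obtain ⟨w, hw, hwe⟩ := mem_autInducedBy.1 hbU
    refine mem_extender_of hu' hun' hw fun y hy => ?_
    have e0 := hb.unique ((hgbar.mul (hce ▸ Bar.conjAut hQS huS hun hun')).mul hgbar.inv)
    have h4 := hwe (bg y)
    rw [e0, MulAut.mul_apply, MulAut.mul_apply, MulAut.inv_apply_self] at h4
    exact h4
  have hQD : imageAlong θ Q ≤ D' := le_extender hQ'U fun y => hom_mem ((mem_autGroup hQ'U).1 hbg) y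
  obtain ⟨-, φ, hφ, hi⟩ := (h.fac.2.2.2 _ _).1 (h.normal.1.2.2.1 _ hχ)
  have hQle : Q ≤ preimageAlong θ D' := fun y hy =>
    mem_preimageAlong.2 ⟨hQS hy, hQD (mem_imageAlong.2 ⟨y, hQS hy, hy, rfl⟩)⟩
  have hφQ : ∀ (y : Q), θ ⟨φ (Subgroup.inclusion hQle y), hom_mem hφ _⟩ =
      (bg (toBar θ hQS y) : Ω') := fun y => by
    rw [← inducedAlong_apply hi (x := Subgroup.inclusion hQle y) (hxS := hQS y.2)
      (hx' := hom_mem hφ _)
      (y := ⟨θ ⟨y, hQS y.2⟩, hQD (mem_imageAlong.2 ⟨y, hQS y.2, y.2, rfl⟩)⟩) rfl]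
    exact hχe _ (toBar θ hQS y).2 _
  have hv : ∀ y : Q, φ.comp (Subgroup.inclusion hQle) y ∈ Q := fun y => by
    refine (pre_image h hQS hZ).le (mem_preimageAlong.2 ⟨hom_mem hφ _, ?_⟩)
    exact (hφQ y).symm ▸ (bg _).2
  obtain ⟨g₀, hg₀, hg₀e⟩ := exists_aut_of_hom (restrict_mem hφ hQle) hv
  have hg₀bar : Bar θ hQS g₀ bg := fun y => Subtype.ext
    ((hφQ y).symm.trans (congrArg θ (Subtype.ext (hg₀e y).symm)))
  have hg₀A : g₀ ∈ (preSystem θ F N).autGroup Q :=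
    (mem_pre_autGroup_iff h hQU).2 ⟨hg₀, bg, hbg, hg₀bar⟩
  have huD2 : u ∈ preimageAlong θ D' := mem_preimageAlong.2 ⟨huS, huD⟩
  set t := φ ⟨u, huD2⟩ with htdef
  have ht : t ∈ preimageAlong θ U' := stronglyClosed_apply_mem (pre_closed h) hφ (x := ⟨u, huD2⟩) hu
  have e1 : g₀ * c * g₀⁻¹ ∈ autInducedBy (preimageAlong θ U') Q := by
    refine mem_autInducedBy.2 ⟨t, ht, fun y => ?_⟩
    obtain ⟨x, rfl⟩ := g₀.surjective y
    rw [MulAut.mul_apply, MulAut.mul_apply, MulAut.inv_apply_self, hg₀e, hg₀e]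
    show φ _ = φ _ * φ (Subgroup.inclusion hQle x) * (φ _)⁻¹
    rw [← map_inv, ← map_mul, ← map_mul]
    exact congrArg φ (Subtype.ext (hue x))
  have hk : g₀⁻¹ * g ∈ kerAut F Z Q :=
    (mem_kerAut_iff_bar h (hP := hQS) (mul_mem (inv_mem hg₀) (pre_le_autGroup h hQU hg))
      (hg₀bar.inv.mul hgbar)).2 (inv_mul_cancel _)
  have hi' := commutator_inn h hQ (autInducedBy_le_autGroup hQU hc) hk
  have e2 : g * c * g⁻¹ =
      g₀ * (c * (g₀⁻¹ * g) * c⁻¹ * (g₀⁻¹ * g)⁻¹)⁻¹ * g₀⁻¹ * (g₀ * c * g₀⁻¹) := by group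
  rw [e2]
  exact mul_mem (inn_le_induced h hQ (inn_conj g₀ (inv_mem hi'))) e1

/-- The separating subgroup exists. -/
theorem exists_kerData [Finite S] [Fact p.Prime] (hQ : InFamily θ Z N Q)
    (hfn : N.IsFullyNormalized (imageAlong θ Q)) :
    ∃ B : Subgroup (MulAut Q), KerData θ Z p F N Q B := by
  haveI := efinite h
  haveI := ufinite h
  obtain ⟨hZ, hQU, hcen⟩ := id hQ
  have hQS : Q ≤ S := hQU.trans preimageAlong_le
  have hQ'U := image_le h hQU
  haveI := finite_mulAut_of_le hQS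
  haveI := finite_mulAut_of_le hQ'U
  set A := (preSystem θ F N).autGroup Q with hA
  set C := autInducedBy (preimageAlong θ U') Q with hC
  set K := kerAut F Z Q with hK
  have hCA : C ≤ A := autInducedBy_le_autGroup hQU
  have hKA : K ≤ A := kerAut_le_pre h hQU
  haveI hKn : (K.subgroupOf A).Normal :=
    ⟨fun a ha g => kerAut_conj h (hP := hQS) (pre_le_autGroup h hQU g.2) ha⟩
  have hp : IsPGroup p ↥(C.subgroupOf A ⊔ K.subgroupOf A) :=
    Cfsg.Lib.Core.isPGroup_sup_of_normal (K := K.subgroupOf A)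
      ((isPGroup_autInducedBy (preP h)).comap_subtype (K := A))
      ((isPGroup_kerAut h hQS).comap_subtype (K := A))
  obtain ⟨W, hW⟩ := hp.exists_le_sylow
  -- the image of `W`
  let W' : Subgroup (N.autGroup (imageAlong θ Q)) :=
    { carrier := {b | ∃ x ∈ (W : Subgroup A), Bar θ hQS (x : MulAut Q) b}
      one_mem' := ⟨1, one_mem _, Bar.one hQS⟩
      mul_mem' := fun {a b} ⟨x, hx, hxa⟩ ⟨y, hy, hyb⟩ => ⟨x * y, mul_mem hx hy, hxa.mul hyb⟩
      inv_mem' := fun {a} ⟨x, hx, hxa⟩ => ⟨x⁻¹, inv_mem hx, hxa.inv⟩ }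
  have hW'p : IsPGroup p W' := by
    rintro ⟨b, x, hx, hxb⟩
    obtain ⟨e, he⟩ := W.isPGroup' ⟨x, hx⟩
    refine ⟨e, Subtype.ext (Subtype.ext ((hxb.pow (p ^ e)).unique ?_))⟩
    have h1 : ((x : MulAut Q)) ^ p ^ e = 1 := congrArg (fun z : (W : Subgroup A) => ((z : A) : MulAut Q)) he
    rw [h1]
    exact Bar.one hQS
  obtain ⟨-, -, W₀, hW₀⟩ := isFullyAutomized_and_fc_of_fn (uP h) h.normal.1.1 hfn
  have hle : (W₀ : Subgroup (N.autGroup (imageAlong θ Q))) ≤ W' := by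
    intro b hb
    rw [hW₀] at hb
    obtain ⟨u', hu', hue⟩ := mem_autInducedBy.1 hb
    obtain ⟨⟨u, huS⟩, rfl⟩ := u_le_range h hu'
    have hnb := mem_normalizer_of_aut hue
    have hn : u ∈ Subgroup.normalizer (Q : Set Ω) := (image_normalizer h hQS hZ ⟨u, huS⟩).1 hnb
    have hcC : conjAut Q hn ∈ C := conjAut_mem_autInducedBy hn (mem_preimageAlong.2 ⟨huS, hu'⟩)
    refine ⟨⟨conjAut Q hn, hCA hcC⟩, hW (Subgroup.mem_sup_left hcC), ?_⟩
    rw [show (b : MulAut (imageAlong θ Q)) = conjAut _ hnb from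
      MulEquiv.ext fun y => Subtype.ext (hue y)]
    exact Bar.conjAut hQS huS hn hnb
  have hWimg : ∀ x : A, x ∈ (W : Subgroup A) → ∀ b, Bar θ hQS (x : MulAut Q) b →
      b ∈ autInducedBy U' (imageAlong θ Q) := by
    intro x hx b hb
    obtain ⟨-, b', hb', hbe⟩ := (mem_pre_autGroup_iff h hQU).1 x.2
    obtain rfl := hbe.unique hb
    have hmem : (⟨b', hb'⟩ : N.autGroup (imageAlong θ Q)) ∈ (W₀ : Subgroup _) :=
      (W₀.3 hW'p hle).le ⟨x, hx, hbe⟩
    rw [hW₀] at hmem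
    exact hmem
  have hdec : ∀ x ∈ (W : Subgroup A), ∃ c ∈ C.subgroupOf A, ∃ k ∈ K.subgroupOf A, x = c * k := by
    intro x hx
    obtain ⟨-, b, -, hb⟩ := (mem_pre_autGroup_iff h hQU).1 x.2
    obtain ⟨u, hn, hu, k, hk, hxk⟩ := exists_factor_induced h hQ x.2 hb (hWimg x hx b hb)
    have hcC : conjAut Q hn ∈ C := conjAut_mem_autInducedBy hn hu
    refine ⟨⟨_, hCA hcC⟩, hcC, ⟨_, hCA hcC⟩⁻¹ * ⟨k, hKA hk⟩ * ⟨_, hCA hcC⟩, ?_, ?_⟩
    · show (conjAut Q hn)⁻¹ * k * conjAut Q hn ∈ K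
      simpa using kerAut_conj h (hP := hQS) (inv_mem (pre_le_autGroup h hQU (hCA hcC))) hk
    · refine Subtype.ext ?_
      show (x : MulAut Q) = conjAut Q hn * ((conjAut Q hn)⁻¹ * k * conjAut Q hn)
      rw [hxk]; group
  have hKW : K.subgroupOf A ≤ (W : Subgroup A) := le_sup_right.trans hW
  have hCW : C.subgroupOf A ≤ (W : Subgroup A) := le_sup_left.trans hW
  obtain ⟨B, hBn, hCB, hcopB, hBW⟩ := exists_transfer_kernel W (C.subgroupOf A) (K.subgroupOf A) hCW hKW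
    hdec (fun a ha b hb => Subtype.ext (kerAut_comm h (hP := hQS) ha hb))
    (fun g c hc hgc => by
      obtain ⟨-, b, -, hb⟩ := (mem_pre_autGroup_iff h hQU).1 (g * c * g⁻¹ : A).2
      exact induced_closed h hQ g.2 hc hb (hWimg _ hgc b hb))
    (fun g k hk => by
      have h1 := commutator_inn h hQ g.2 hk
      have h2 := inn_conj ((k : MulAut Q))⁻¹ h1
      show (k : MulAut Q)⁻¹ * ((g : MulAut Q) * k * (g : MulAut Q)⁻¹) ∈ C
      refine inn_le_induced h hQ ?_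
      simpa [mul_assoc] using h2)
  refine ⟨B.map A.subtype, ⟨fun a ha hc => ⟨⟨a, ha⟩, hcopB _ (by rwa [← Subgroup.orderOf_coe]), rfl⟩,
    fun c hc => ⟨⟨c, hCA hc⟩, hCB hc, rfl⟩, ?_, ?_, ?_⟩⟩
  · rintro g hg _ ⟨b, hb, rfl⟩
    exact ⟨⟨g, hg⟩ * b * ⟨g, hg⟩⁻¹, hBn.conj_mem b hb ⟨g, hg⟩, rfl⟩
  · rintro _ hk ⟨b, hb, rfl⟩
    obtain ⟨u, hu, hue⟩ := mem_autInducedBy.1 (hBW ⟨hb, hKW hk⟩)
    have hn := mem_normalizer_of_aut hue
    have he : A.subtype b = conjAut Q hn := MulEquiv.ext fun y => Subtype.ext (hue y)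
    rw [he] at hk ⊢
    exact inn_of_ker_induced h hQ hu hn hk
  · intro X hX hXA hXB
    obtain ⟨W₁, hW₁⟩ := (hX.comap_subtype (K := A)).exists_le_sylow
    obtain ⟨g, hg⟩ := MulAction.exists_smul_eq A W₁ W
    refine ⟨g, g.2, fun x hx => ?_⟩
    have h1 : g * ⟨x, hXA hx⟩ * g⁻¹ ∈ (W : Subgroup A) := by
      rw [← hg, Sylow.coe_subgroup_smul]
      exact Subgroup.smul_mem_pointwise_smul (⟨x, hXA hx⟩ : A) (MulAut.conj g) _ (hW₁ hx)
    obtain ⟨b, hb, hbx⟩ := hXB hx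
    have hxB : (⟨x, hXA hx⟩ : A) ∈ B := by
      rwa [show (⟨x, hXA hx⟩ : A) = b from Subtype.ext hbx.symm]
    exact hBW ⟨hBn.conj_mem _ hxB g, h1⟩

end

end Cfsg.Lib.FusionSys.CentralLift
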