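import Cfsg.Agent.Lib.FusionSys.CentralLift.Saturated
import Cfsg.Agent.Lib.FusionSys.StrongInvariance
import Cfsg.Agent.Lib.FusionSys.TransportAlong

/-!
The generated system is weakly normal.
-/

set_option autoImplicit false
set_option linter.style.haveILetI false

namespace Cfsg.Lib.FusionSys.CentralLift

open Cfsg Cfsg.FusionSystem Cfsg.Lib.FusionSys

universe u v

variable {Ω : Type u} [Group Ω] {S : Subgroup Ω} {Ω' : Type v} [Group Ω'] {S' : Subgroup Ω'}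
  {U' : Subgroup Ω'} {p : ℕ} {F : FusionSystem S} {Z : Subgroup Ω} {θ : S →* Ω'}
  {E : FusionSystem S'} {N : FusionSystem U'} {P Q : Subgroup Ω}

section

variable (h : CSetup p F Z θ E N)
include h

/-- The automorphisms of the base preserve the generated system. -/
theorem gen_transport [Finite S] [Fact p.Prime] (hP : P ≤ preimageAlong θ U') {φ : P →* Ω}
    (hφ : φ ∈ (genSystem θ Z p F N).Hom P) {α : MulAut (preimageAlong θ U')}
    (hα : α ∈ F.autGroup (preimageAlong θ U')) :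
    ∃ χ ∈ (genSystem θ Z p F N).Hom (autImage α P), ∀ (x : P)
      (hx : ((α ⟨x, hP x.2⟩ : preimageAlong θ U') : Ω) ∈ autImage α P),
      χ ⟨_, hx⟩ = ((α ⟨φ x, hom_mem hφ x⟩ : preimageAlong θ U') : Ω) := by
  have hUS : (preimageAlong θ U') ≤ S := preimageAlong_le
  haveI : Finite (preimageAlong θ U') := finite_of_le hUS
  let j := SIso.ofEquiv (S := preimageAlong θ U') (S' := preimageAlong θ U') α
  obtain ⟨E₁, hE₁⟩ := SIso.exists_mapsTo_eq j.symm le_rfl (genSystem θ Z p F N) j.symm.img_top.symm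
  have hgen : IsGen θ Z p F N E₁ := by
    intro R hR a ha hc
    let e := j.imgEquiv hR.2.1
    have he : IsoIn F e := hom_congr (restrict_mem ((mem_autGroup hUS).1 hα) hR.2.1)
      fun x => SIso.ofEquiv_apply α ⟨x, hR.2.1 x.2⟩
    have hR0 : InFamily θ Z N (j.img R) := by
      have := family_map h hR he
      rwa [show ((j.img R).subtype.comp e.toMonoidHom).range = j.img R from by
        ext y
        exact ⟨fun ⟨x, hx⟩ => hx ▸ (e x).2, fun hy => ⟨e.symm ⟨y, hy⟩, by simp⟩⟩] at this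
    have ha0 := coprime_mem_gen hR0 (pre_congr h he hR.2.1 hR0.2.1 ha)
      (by rwa [MulEquiv.orderOf_eq])
    obtain ⟨φ', hφ', hrel⟩ := hE₁.fwd_eq ((mem_autGroup hR0.2.1).1 ha0) (j.symm_img_img hR.2.1)
    refine (mem_autGroup hR.2.1).2 (hom_congr hφ' fun x => ?_)
    have hx0 : j.toFun x ∈ j.img R := j.apply_mem_img hR.2.1 x.2
    have h1 := hrel (j.toFun x) hx0 (by rw [j.symm_apply (hR.2.1 x.2)]; exact x.2)
    refine (Eq.trans ?_ ((congrArg φ' (Subtype.ext (j.symm_apply (hR.2.1 x.2)).symm)).trans h1).symm)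
    show ((a x : R) : Ω) = j.symm.toFun ((e (a (e.symm ⟨j.toFun x, hx0⟩)) : j.img R) : Ω)
    rw [show e.symm ⟨j.toFun x, hx0⟩ = x from (MulEquiv.symm_apply_eq e).2 rfl]
    exact (j.symm_apply (hR.2.1 (a x).2)).symm
  obtain ⟨φ₀, hφ₀, hrel⟩ := hE₁.bwd (hφ.2 E₁ hgen)
  have himg : j.symm.symm.img P = autImage α P := by
    ext y
    rw [SIso.mem_img, mem_autImage]
    constructor
    · rintro ⟨x, hxP, hxU, rfl⟩
      exact ⟨⟨x, hxU⟩, hxP, (SIso.ofEquiv_apply α ⟨x, hxU⟩).symm⟩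
    · rintro ⟨⟨x, hxU⟩, hxP, rfl⟩
      exact ⟨x, hxP, hxU, SIso.ofEquiv_apply α ⟨x, hxU⟩⟩
  refine ⟨_, restrict_mem hφ₀ himg.ge, fun x hx => ?_⟩
  show φ₀ ⟨_, _⟩ = _
  rw [← SIso.ofEquiv_apply α ⟨φ x, hom_mem hφ x⟩]
  exact Eq.trans (congrArg φ₀ (Subtype.ext (SIso.ofEquiv_apply α ⟨x, hP x.2⟩).symm))
    (hrel x x.2 (by
      show j.toFun x ∈ _
      exact j.apply_mem_img hP x.2))

/-- The generated system is invariant. -/
theorem gen_isInvariant [Finite S] [Fact p.Prime] : (genSystem θ Z p F N).IsInvariantIn F := by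
  set U := preimageAlong θ U' with hU
  have hUS : U ≤ S := preimageAlong_le
  haveI : Finite U := finite_of_le hUS
  haveI := efinite h
  refine ⟨gen_isSubsystem, pre_closed h, fun P hP φ hφ α hα => ?_, fun P hP φ hφ => ?_⟩
  · obtain ⟨χ, hχ, hχe⟩ := gen_transport h hP hφ hα
    exact ⟨χ, hχ, fun x _ hx => hχe x hx⟩
  refine frattini_of_aut h.hS h.hF (pre_closed h) (fun hPT φ hφ α hα => gen_transport h hPT hφ hα)
    ?_ _ P hP (Nat.le_add_left _ _) φ hφ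
  intro Q hQ hlt hIH β hβ
  have hQU : Q ≤ U := hlt.le
  have hQS := hQ.1
  haveI := finite_of_le hQS
  by_cases hZ : Z ≤ Q
  swap
  · -- add the centre
    obtain ⟨ψ, hψ, hψe, -⟩ := h.cen.2 Q _ ((mem_autGroup hQS).1 hβ)
    haveI := finite_of_le ((sup_le hQU (z_le_pre h)).trans hUS)
    have hcard : Nat.card Q < Nat.card (Q ⊔ Z : Subgroup Ω) :=
      Set.Finite.card_lt_card (Set.toFinite _)
        (lt_of_le_of_ne le_sup_left fun e => hZ (le_sup_right.trans e.ge) : Q < Q ⊔ Z)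
    obtain ⟨α, hα, φ₀, hφ₀, he⟩ := hIH _ (sup_le hQU (z_le_pre h)) hcard ψ hψ
    refine ⟨α, hα, _, restrict_mem hφ₀ le_sup_left, fun x hx => ?_⟩
    exact (hψe x).symm.trans (he (Subgroup.inclusion le_sup_left x) hx)
  -- the case of a subgroup containing the centre
  obtain ⟨ψ', hψ', hi⟩ := mem_morphism h ((mem_autGroup hQS).1 hβ)
  obtain ⟨ab, hab, φb, hφb, hbe⟩ := h.normal.1.2.2.2.2.2 _ (image_le h hQU) ψ' hψ'
  obtain ⟨φ₀, hφ₀, hi₀⟩ := exists_lift_hom h hφb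
  have heq := pre_image h hQS hZ
  -- lift the automorphism of the base
  obtain ⟨-, φa, hφa, hia⟩ := (h.fac.2.2.2 _ _).1 ((mem_autGroup (u_le h)).1 hab)
  obtain ⟨α, hα, hαe⟩ := exists_aut_of_hom hφa fun x =>
    stronglyClosed_apply_mem (pre_closed h) hφa (x := x) x.2
  set φ₁ := φ₀.comp (Subgroup.inclusion heq.ge) with hφ₁def
  have hφ₁ : φ₁ ∈ (genSystem θ Z p F N).Hom Q := restrict_mem hφ₀ heq.ge
  set χ := (U.subtype.comp α.toMonoidHom).comp (φ₁.codRestrict U (hom_mem hφ₁)) with hχdef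
  have hχ : χ ∈ F.Hom Q :=
    F.comp_mem (gen_isSubsystem _ hφ₁) ((mem_autGroup hUS).1 hα) (hom_mem hφ₁)
  have hχθ : ∀ x : Q, θ ⟨χ x, hom_mem hχ x⟩ = θ ⟨(β x : Ω), hQS (β x).2⟩ := by
    intro x
    have e1 : φb ⟨θ ⟨x, hQS x.2⟩, mem_imageAlong.2 ⟨x, hQS x.2, x.2, rfl⟩⟩ =
        θ ⟨φ₁ x, hUS (hom_mem hφ₁ x)⟩ :=
      inducedAlong_apply hi₀ (x := Subgroup.inclusion heq.ge x) rfl
    have e2 : ψ' ⟨θ ⟨x, hQS x.2⟩, mem_imageAlong.2 ⟨x, hQS x.2, x.2, rfl⟩⟩ =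
        θ ⟨(β x : Ω), hQS (β x).2⟩ := inducedAlong_apply hi rfl
    have hw : φ₁ x ∈ U := hom_mem hφ₁ x
    have e3 : ((ab ⟨θ ⟨φ₁ x, hUS hw⟩, (mem_preimageAlong.1 hw).2⟩ : U') : Ω') =
        θ ⟨φa ⟨φ₁ x, hw⟩, hom_mem hφa _⟩ :=
      inducedAlong_apply hia (x := ⟨φ₁ x, hw⟩) (y := ⟨θ ⟨φ₁ x, hUS hw⟩, (mem_preimageAlong.1 hw).2⟩) rfl
    rw [← e2, hbe _ (hom_mem hφb _)]
    refine Eq.trans ?_ (congrArg (fun z : U' => ((ab z : U') : Ω')) (Subtype.ext (a1 := ⟨θ ⟨φ₁ x, hUS hw⟩, (mem_preimageAlong.1 hw).2⟩) e1.symm))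
    exact Eq.trans (congrArg θ (Subtype.ext (a2 := ⟨φa ⟨φ₁ x, hw⟩, hom_mem hφa _⟩) (hαe ⟨φ₁ x, hw⟩))) e3.symm
  have hv : ∀ x, χ x ∈ Q := fun x => by
    refine heq.le (mem_preimageAlong.2 ⟨hom_mem hχ x, ?_⟩)
    rw [hχθ x]
    exact mem_imageAlong.2 ⟨_, hQS (β x).2, (β x).2, rfl⟩
  obtain ⟨a₁, ha₁, ha₁e⟩ := exists_aut_of_hom hχ hv
  have hk : β * a₁⁻¹ ∈ kerAut F Z Q := by
    refine ⟨mul_mem hβ ((F.autGroup Q).inv_mem ha₁), fun x => ?_⟩
    obtain ⟨y, rfl⟩ := a₁.surjective x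
    rw [MulAut.mul_apply, MulAut.inv_apply_self]
    refine (hker h (⟨_, hQS (a₁ y).2⟩⁻¹ * ⟨_, hQS (β y).2⟩)).1 ?_
    rw [map_mul, map_inv, inv_mul_eq_one, ← hχθ y]
    exact congrArg θ (Subtype.ext (ha₁e y))
  obtain ⟨t, ht, hte⟩ := mem_autInducedBy.1 (kerAut_le_induced h hQS hQ hk)
  have htU : t ∈ Subgroup.normalizer (U : Set Ω) := stronglyClosed_le_normalizer (pre_closed h) ht
  refine ⟨conjAut U htU * α,
    mul_mem (autInducedBy_le_autGroup hUS (conjAut_mem_autInducedBy htU ht)) hα, φ₁, hφ₁, fun x hx => ?_⟩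
  have h1 := hte (a₁ x)
  rw [MulAut.mul_apply, MulAut.inv_apply_self, ha₁e] at h1
  exact h1

/-- The generated system is weakly normal. -/
theorem gen_isWeaklyNormal [Finite S] [Fact p.Prime] :
    (genSystem θ Z p F N).IsWeaklyNormalIn F p :=
  ⟨gen_isSaturated h, h.hF, gen_isInvariant h⟩

end

end Cfsg.Lib.FusionSys.CentralLift
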